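import Mathlib

/-!
Matrices over the field with two elements, rows stored as natural numbers.
-/

set_option autoImplicit false

namespace Cfsg.Agent.H78.Fi22Mult

/-- a row times a matrix -/
def rowMul : List ℕ → ℕ → ℕ
  | [], _ => 0
  | b :: B, a => (bif Nat.beq (Nat.land a 1) 1 then b else 0) ^^^ rowMul B (a >>> 1)

/-- product of matrices -/
def mulR (A B : List ℕ) : List ℕ := A.map (rowMul B)

/-- product of the letters of a word -/
def prodR (gs : List (List ℕ)) (one : List ℕ) : List ℕ → List ℕ
  | [] => one
  | l :: w => mulR (gs.getD l []) (prodR gs one w)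

/-- a bit as an element of the field with two elements -/
def bit2 (b : Bool) : ZMod 2 := bif b then 1 else 0

theorem bit2_xor (a b : Bool) : bit2 (a ^^ b) = bit2 a + bit2 b := by
  cases a <;> cases b <;> decide

theorem bit2_and (a b : Bool) : bit2 (a && b) = bit2 a * bit2 b := by
  cases a <;> cases b <;> decide

theorem rowMul_bit : ∀ (B : List ℕ) (a j : ℕ),
    bit2 ((rowMul B a).testBit j) =
      ∑ k ∈ Finset.range B.length, bit2 (a.testBit k) * bit2 ((B.getD k 0).testBit j) := by
  intro B
  induction B with
  | nil => intro a j; simp [rowMul, bit2]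
  | cons b B ih =>
    intro a j
    rw [rowMul, Nat.testBit_xor, bit2_xor, ih, List.length_cons, Finset.sum_range_succ']
    rw [add_comm]
    congr 1
    · refine Finset.sum_congr rfl fun k _ => ?_
      rw [Nat.testBit_shiftRight, List.getD_cons_succ, add_comm 1 k]
    · have h : a &&& 1 = a % 2 := Nat.and_one_is_mod a
      rw [List.getD_cons_zero, ← bit2_and, Nat.testBit_zero, show Nat.land a 1 = a % 2 from h]
      rcases Nat.mod_two_eq_zero_or_one a with h' | h' <;> rw [h'] <;>
        simp [Nat.beq, bit2]

/-- the matrix of a list of rows -/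
def bmat (n : ℕ) (A : List ℕ) : Matrix (Fin n) (Fin n) (ZMod 2) :=
  Matrix.of fun i j => bit2 ((A.getD i 0).testBit j)

theorem bmat_mulR {n : ℕ} {A B : List ℕ} (hA : A.length = n) (hB : B.length = n) :
    bmat n (mulR A B) = bmat n A * bmat n B := by
  ext i j
  simp only [bmat, Matrix.of_apply, Matrix.mul_apply]
  have hi : (i : ℕ) < A.length := hA ▸ i.isLt
  rw [mulR, List.getD_eq_getElem _ 0 (by simpa using hi), List.getElem_map,
    List.getD_eq_getElem _ 0 hi, rowMul_bit, hB, ← Fin.sum_univ_eq_sum_range]

theorem mulR_length (A B : List ℕ) : (mulR A B).length = A.length := by simp [mulR]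

theorem prodR_length {n : ℕ} {gs : List (List ℕ)} {one : List ℕ} (h1 : one.length = n)
    (hg : ∀ g ∈ gs, g.length = n) : ∀ w : List ℕ, (∀ l ∈ w, l < gs.length) →
    (prodR gs one w).length = n
  | [], _ => h1
  | l :: w, hw => by
    rw [prodR, mulR_length, List.getD_eq_getElem _ _ (hw l List.mem_cons_self)]
    exact hg _ (List.getElem_mem _)

theorem bmat_prodR {n : ℕ} {gs : List (List ℕ)} {one : List ℕ} (h1 : one.length = n)
    (hg : ∀ g ∈ gs, g.length = n) : ∀ w : List ℕ, (∀ l ∈ w, l < gs.length) →
    bmat n (prodR gs one w) = (w.map fun l => bmat n (gs.getD l [])).prod * bmat n one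
  | [], _ => by simp [prodR]
  | l :: w, hw => by
    have hl := hw l List.mem_cons_self
    have hw' : ∀ m ∈ w, m < gs.length := fun m hm => hw m (List.mem_cons_of_mem _ hm)
    rw [prodR, bmat_mulR (by rw [List.getD_eq_getElem _ _ hl]; exact hg _ (List.getElem_mem _))
      (prodR_length h1 hg w hw'), bmat_prodR h1 hg w hw', List.map_cons, List.prod_cons, mul_assoc]

/-- the rows of the identity -/
def idR (n : ℕ) : List ℕ := (List.range n).map fun i => 2 ^ i

theorem bmat_idR (n : ℕ) : bmat n (idR n) = 1 := by
  ext i j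
  simp only [bmat, idR, Matrix.of_apply]
  rw [List.getD_eq_getElem _ 0 (by simp), List.getElem_map, List.getElem_range, Nat.testBit_two_pow]
  by_cases h : i = j
  · subst h; simp [bit2]
  · have h' : (i : ℕ) ≠ j := fun e => h (Fin.ext e)
    simp [bit2, h, h']

end Cfsg.Agent.H78.Fi22Mult
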