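import Cfsg.Agent.H78.Fi22Mult.Core
import Cfsg.Agent.H45.Fi22Top
import Cfsg.Agent.H87.CoxeterStem

/-!
Every stem extension of Fi22 has a kernel of order dividing six, and cyclic.
-/

set_option autoImplicit false

namespace Cfsg.Agent.H78.Fi22Mult

open Cfsg.Spor Cfsg.Agent.H45
open Subgroup
open scoped commutatorElement

/-- the presented group -/
abbrev GG : Type := Fi22Pres.pres.Gp

/-- the letters in the presented group -/
noncomputable def eG : ℕ → GG := Fi22Pres.pres.e

theorem eG_rel {w : List ℕ} (hw : w ∈ Fi22Pres.pres.R) : evalW eG w = 1 := Fi22Pres.ok.rel w hw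

theorem cox_words : ((List.range 9).all fun x => Fi22Pres.pres.Rc.elem [x, x] &&
    ((List.range 9).all fun y => Nat.ble y x ||
      bif adjL x y then Fi22Pres.pres.Rc.elem [x, y, x, y, x, y]
      else Fi22Pres.pres.Rc.elem [x, y, x, y])) = true := by decide +kernel

/-- Relations given by words imply the graph relations. -/
theorem CoxRel.of_words {X : Type*} [Group X] {e : ℕ → X}
    (h : ∀ w ∈ Fi22Pres.pres.Rc, evalW e w = 1) : CoxRel e := by
  have hw := fun x (hx : x < 9) => List.all_eq_true.mp cox_words x (List.mem_range.mpr hx)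
  have sq : ∀ x, x < 9 → e x * e x = 1 := fun x hx => by
    have := hw x hx
    simp only [Bool.and_eq_true, List.elem_iff] at this
    simpa [evalW] using h _ this.1
  have inv : ∀ x, x < 9 → (e x)⁻¹ = e x := fun x hx => inv_eq_of_mul_eq_one_right (sq x hx)
  have key : ∀ x y, x < 9 → y < 9 → x < y →
      (adjL x y = false → e x * e y = e y * e x) ∧
      (adjL x y = true → e x * e y * e x = e y * e x * e y) := by
    intro x y hx hy hxy
    have h1 := hw x hx
    simp only [Bool.and_eq_true, List.all_eq_true, List.mem_range, Bool.or_eq_true, Nat.ble_eq] at h1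
    have h2 := (h1.2 y hy).resolve_left (by omega)
    refine ⟨fun ha => ?_, fun ha => ?_⟩
    · rw [ha, cond_false, List.elem_iff] at h2
      have h3 := h _ h2
      simp only [evalW, List.map_cons, List.map_nil, List.prod_cons, List.prod_nil, mul_one,
        ← mul_assoc] at h3
      have h4 := eq_inv_of_mul_eq_one_left h3
      calc e x * e y = (e x * e y * e x) * e x := by rw [mul_assoc _ (e x), sq x hx, mul_one]
        _ = e y * e x := by rw [h4, inv y hy]
    · rw [ha, cond_true, List.elem_iff] at h2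
      have h3 := h _ h2
      simp only [evalW, List.map_cons, List.map_nil, List.prod_cons, List.prod_nil, mul_one] at h3
      have h4 : (e x * e y * e x) * (e y * e x * e y) = 1 := by simpa only [mul_assoc] using h3
      rw [eq_inv_of_mul_eq_one_left h4]
      simp only [mul_inv_rev, inv x hx, inv y hy, mul_assoc]
  have hsymm : ∀ x y, adjL x y = adjL y x := by
    intro x y
    unfold adjL
    rcases lt_trichotomy x y with h' | h' | h'
    · rw [Nat.ble_eq_true_of_le h'.le,
        show Nat.ble y x = false by rw [Bool.eq_false_iff, ne_eq, Nat.ble_eq]; omega]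
      rfl
    · rw [h']
    · rw [Nat.ble_eq_true_of_le h'.le,
        show Nat.ble x y = false by rw [Bool.eq_false_iff, ne_eq, Nat.ble_eq]; omega]
      rfl
  refine ⟨sq, fun x y hx hy hne ha => ?_, fun x y hx hy ha => ?_⟩
  · rcases lt_trichotomy x y with h' | h' | h'
    · exact (key x y hx hy h').1 ha
    · exact absurd h' hne
    · exact ((key y x hy hx h').1 (hsymm x y ▸ ha)).symm
  · rcases lt_trichotomy x y with h' | h' | h'
    · exact (key x y hx hy h').2 ha
    · rw [h']
    · exact ((key y x hy hx h').2 (hsymm x y ▸ ha)).symm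

theorem eG_cox : CoxRel eG := CoxRel.of_words fun _ hw => eG_rel (List.mem_append_left _ hw)

/-- the word of the third subgraph of type E7, nine times -/
def wC : List ℕ := (List.replicate 9 [2, 3, 4, 5, 6, 7, 8]).flatten

theorem wC_fix : (wC.all (fun l => Nat.blt l 9) &&
    fixAll (wC.map fun l => Fi22I3510.cols.getD l 0) 3510) = true := by decide +kernel

theorem eG_wC : evalW eG wC = 1 := by
  obtain ⟨-, -, φ, hA, hinj, -⟩ := Fi22Top.order_facts
  exact evalW_eq_one hA hinj (by rw [Fi22Main.rl]; exact wC_fix)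

theorem walk01_ne : Nat.beq (walkT Fi22I3510.cols [0] 0) (walkT Fi22I3510.cols [1] 0) = false := by
  decide +kernel

theorem eG01 : eG 0 ≠ eG 1 := by
  intro h
  obtain ⟨-, -, φ, hA, -, -⟩ := Fi22Top.order_facts
  have h1 : evalW Fi22Pres.pres.e [0] = evalW Fi22Pres.pres.e [1] := by simpa [evalW, eG] using h
  have h2 := congrArg φ h1
  rw [hA.evalW _ (by simp [Fi22Main.rl]), hA.evalW _ (by simp [Fi22Main.rl])] at h2
  have h3 := congrArg (fun p : Equiv.Perm (Fin 3510) => ((p⁻¹) ⟨0, by norm_num⟩ : ℕ)) h2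
  rw [sig_walk _ [0] (by simp [Fi22Main.rl]), sig_walk _ [1] (by simp [Fi22Main.rl])] at h3
  have := walk01_ne
  rw [Nat.beq_eq.mpr h3] at this
  exact Bool.noConfusion this

/-- the parent of a node in the tree -/
def par (k : ℕ) : ℕ := [0, 0, 1, 2, 3, 4, 5, 3, 7].getD k 0

theorem eG_gen : Subgroup.closure {g | ∃ l < 9, eG l = g} = ⊤ := by
  have := Fi22Pres.ok.gen
  rw [Fi22Main.rl] at this
  exact this

variable {Γ : Type} [Group Γ] {σ : Γ →* GG}

/-- Lifts can be chosen that commute and braid exactly. -/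
theorem exists_lifts (hs : Function.Surjective σ) (hc : σ.ker ≤ center Γ) :
    ∃ r : ℕ → Γ, (∀ l, l < 9 → σ (r l) = eG l) ∧
      (∀ x y, x < 9 → y < 9 → x ≠ y → adjL x y = false → r x * r y = r y * r x) ∧
      (∀ k, k < 9 → 0 < k → r (par k) * r k * r (par k) = r k * r (par k) * r k) := by
  choose r₀ hr₀ using fun l => hs (eG l)
  have cen : ∀ z, σ z = 1 → ∀ x : Γ, x * z = z * x := fun z hz x =>
    mem_center_iff.1 (hc (MonoidHom.mem_ker.2 hz)) x
  set c : ℕ → ℕ → Γ := fun x y => ⁅r₀ x, r₀ y⁆ with hcdef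
  have hker : ∀ x y, x < 9 → y < 9 → x ≠ y → adjL x y = false → σ (c x y) = 1 := by
    intro x y hx hy hne ha
    rw [hcdef, map_commutatorElement, hr₀, hr₀, commutatorElement_eq_one_iff_mul_comm]
    exact eG_cox.comm x y hx hy hne ha
  have hsq : ∀ x, x < 9 → r₀ x * r₀ x ∈ center Γ := fun x hx => hc (by
    rw [MonoidHom.mem_ker, map_mul, hr₀]; exact eG_cox.sq x hx)
  have hstepeq : ∀ i j k, i < 9 → j < 9 → k < 9 → (i ≠ j ∧ adjL i j = false ∧ adjL j k = true) →
      (i ≠ k ∧ adjL i k = false) → c i j = c i k := by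
    rintro i j k hi hj hk ⟨hij, aij, ajk⟩ ⟨hik, aik⟩
    have hz := cen _ (hker i j hi hj hij aij)
    set w := r₀ j * r₀ k with hw
    have hb := eG_cox.braid j k hj hk ajk
    have e1 : σ (r₀ k) = σ (w * r₀ j * w⁻¹) := by
      rw [hw]
      simp only [map_mul, map_inv, hr₀]
      rw [hb, mul_inv_rev]
      simp [mul_assoc]
    have e2 : σ (r₀ i) = σ (w * r₀ i * w⁻¹) := by
      rw [hw]
      simp only [map_mul, map_inv, hr₀]
      have c1 := eG_cox.comm i j hi hj hij aij
      have c2 := eG_cox.comm i k hi hk hik aik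
      rw [mul_assoc (eG j), ← c2, ← mul_assoc (eG j), ← c1]
      group
    show ⁅r₀ i, r₀ j⁆ = ⁅r₀ i, r₀ k⁆
    rw [Cfsg.Agent.H87.CoxeterStem.commutator_congr hc e2 e1, ← conjugate_commutatorElement,
      show ⁅r₀ i, r₀ j⁆ = c i j from rfl, hz w, mul_inv_cancel_right]
  -- the common value on the pairs at the first node
  set ε := c 0 2 with hεdef
  have hε0 : σ ε = 1 := hker 0 2 (by decide) (by decide) (by decide) (by decide)
  have e23 : c 0 2 = c 0 3 := hstepeq 0 2 3 (by decide) (by decide) (by decide) (by decide) (by decide)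
  have e34 : c 0 3 = c 0 4 := hstepeq 0 3 4 (by decide) (by decide) (by decide) (by decide) (by decide)
  have e45 : c 0 4 = c 0 5 := hstepeq 0 4 5 (by decide) (by decide) (by decide) (by decide) (by decide)
  have e56 : c 0 5 = c 0 6 := hstepeq 0 5 6 (by decide) (by decide) (by decide) (by decide) (by decide)
  have e37 : c 0 3 = c 0 7 := hstepeq 0 3 7 (by decide) (by decide) (by decide) (by decide) (by decide)
  have e78 : c 0 7 = c 0 8 := hstepeq 0 7 8 (by decide) (by decide) (by decide) (by decide) (by decide)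
  have hall : ∀ x, 2 ≤ x → x < 9 → c 0 x = ε := by
    intro x h2 h9
    interval_cases x
    · rfl
    · exact e23.symm
    · exact (e23.trans e34).symm
    · exact (e23.trans (e34.trans e45)).symm
    · exact (e23.trans (e34.trans (e45.trans e56))).symm
    · exact (e23.trans e37).symm
    · exact (e23.trans (e37.trans e78)).symm
  have hε2 : ε * ε = 1 := by
    have hz := cen _ hε0
    have e : r₀ 0 * r₀ 2 * (r₀ 0)⁻¹ = ε * r₀ 2 := by
      show _ = ⁅r₀ 0, r₀ 2⁆ * r₀ 2
      rw [commutatorElement_def]; group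
    have e2 : r₀ 0 * (r₀ 0 * r₀ 2 * (r₀ 0)⁻¹) * (r₀ 0)⁻¹ = r₀ 2 := by
      calc r₀ 0 * (r₀ 0 * r₀ 2 * (r₀ 0)⁻¹) * (r₀ 0)⁻¹
          = r₀ 0 * r₀ 0 * r₀ 2 * (r₀ 0 * r₀ 0)⁻¹ := by group
        _ = r₀ 2 := by rw [← mem_center_iff.1 (hsq 0 (by decide)) (r₀ 2), mul_inv_cancel_right]
    rw [e, ← mul_assoc (r₀ 0), hz (r₀ 0), mul_assoc ε, mul_assoc ε, e, ← mul_assoc] at e2
    exact mul_eq_right.1 e2
  have hconj : ∀ w : List ℕ, (∀ l ∈ w, 2 ≤ l ∧ l < 9) →
      r₀ 0 * evalW r₀ w * (r₀ 0)⁻¹ = ε ^ w.length * evalW r₀ w := by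
    intro w
    induction w with
    | nil => intro _; simp [evalW]
    | cons x w ih =>
      intro hw
      have hx := hw x List.mem_cons_self
      have h1 : r₀ 0 * r₀ x * (r₀ 0)⁻¹ = ε * r₀ x := by
        rw [← hall x hx.1 hx.2]
        show _ = ⁅r₀ 0, r₀ x⁆ * r₀ x
        rw [commutatorElement_def]; group
      have hz : ∀ n : ℕ, r₀ x * ε ^ n = ε ^ n * r₀ x := fun n =>
        (Commute.pow_right (cen _ hε0 (r₀ x)) n).eq
      calc r₀ 0 * evalW r₀ (x :: w) * (r₀ 0)⁻¹
          = (r₀ 0 * r₀ x * (r₀ 0)⁻¹) * (r₀ 0 * evalW r₀ w * (r₀ 0)⁻¹) := by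
            rw [evalW_cons]; group
        _ = ε * r₀ x * (ε ^ w.length * evalW r₀ w) := by
            rw [h1, ih fun l hl => hw l (List.mem_cons_of_mem _ hl)]
        _ = ε ^ (x :: w).length * evalW r₀ (x :: w) := by
            rw [evalW_cons, List.length_cons, pow_succ']
            simp only [← mul_assoc]
            rw [mul_assoc ε, hz, ← mul_assoc]
  have hU : σ (evalW r₀ wC) = 1 := by
    rw [← eG_wC]
    simp [evalW, map_list_prod, List.map_map, Function.comp_def, hr₀]
  have hε : ε = 1 := by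
    have h1 := hconj wC (by decide +kernel)
    rw [cen _ hU (r₀ 0), mul_inv_cancel_right, show wC.length = 2 * 31 + 1 by decide +kernel,
      pow_succ, pow_mul, pow_two, hε2, one_pow, one_mul] at h1
    exact mul_eq_right.1 h1.symm
  have hbase : ∀ x, 2 ≤ x → x < 9 → c 0 x = 1 := fun x h2 h9 => (hall x h2 h9).trans hε
  have hsymm : ∀ x y, c x y = 1 → c y x = 1 := fun x y h => by
    show ⁅r₀ y, r₀ x⁆ = 1
    rw [← commutatorElement_inv, show ⁅r₀ x, r₀ y⁆ = (1 : Γ) from h, inv_one]
  have hstep : ∀ i j k, i < 9 → j < 9 → k < 9 → (i ≠ j ∧ adjL i j = false ∧ adjL j k = true) →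
      (i ≠ k ∧ adjL i k = false) → c i j = 1 → c i k = 1 := fun i j k hi hj hk h1 h2 h =>
    (hstepeq i j k hi hj hk h1 h2).symm.trans h
  have p02 : c 0 2 = 1 := hbase 2 (by decide) (by decide)
  have p03 : c 0 3 = 1 := hbase 3 (by decide) (by decide)
  have p04 : c 0 4 = 1 := hbase 4 (by decide) (by decide)
  have p05 : c 0 5 = 1 := hbase 5 (by decide) (by decide)
  have p06 : c 0 6 = 1 := hbase 6 (by decide) (by decide)
  have p07 : c 0 7 = 1 := hbase 7 (by decide) (by decide)
  have p08 : c 0 8 = 1 := hbase 8 (by decide) (by decide)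
  have p20 : c 2 0 = 1 := hsymm 0 2 p02
  have p30 : c 3 0 = 1 := hsymm 0 3 p03
  have p40 : c 4 0 = 1 := hsymm 0 4 p04
  have p50 : c 5 0 = 1 := hsymm 0 5 p05
  have p60 : c 6 0 = 1 := hsymm 0 6 p06
  have p70 : c 7 0 = 1 := hsymm 0 7 p07
  have p80 : c 8 0 = 1 := hsymm 0 8 p08
  have p31 : c 3 1 = 1 := hstep 3 0 1 (by decide) (by decide) (by decide) (by decide) (by decide) p30
  have p41 : c 4 1 = 1 := hstep 4 0 1 (by decide) (by decide) (by decide) (by decide) (by decide) p40
  have p51 : c 5 1 = 1 := hstep 5 0 1 (by decide) (by decide) (by decide) (by decide) (by decide) p50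
  have p61 : c 6 1 = 1 := hstep 6 0 1 (by decide) (by decide) (by decide) (by decide) (by decide) p60
  have p71 : c 7 1 = 1 := hstep 7 0 1 (by decide) (by decide) (by decide) (by decide) (by decide) p70
  have p81 : c 8 1 = 1 := hstep 8 0 1 (by decide) (by decide) (by decide) (by decide) (by decide) p80
  have p13 : c 1 3 = 1 := hsymm 3 1 p31
  have p14 : c 1 4 = 1 := hsymm 4 1 p41
  have p42 : c 4 2 = 1 := hstep 4 1 2 (by decide) (by decide) (by decide) (by decide) (by decide) p41
  have p15 : c 1 5 = 1 := hsymm 5 1 p51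
  have p52 : c 5 2 = 1 := hstep 5 1 2 (by decide) (by decide) (by decide) (by decide) (by decide) p51
  have p16 : c 1 6 = 1 := hsymm 6 1 p61
  have p62 : c 6 2 = 1 := hstep 6 1 2 (by decide) (by decide) (by decide) (by decide) (by decide) p61
  have p17 : c 1 7 = 1 := hsymm 7 1 p71
  have p72 : c 7 2 = 1 := hstep 7 1 2 (by decide) (by decide) (by decide) (by decide) (by decide) p71
  have p18 : c 1 8 = 1 := hsymm 8 1 p81
  have p82 : c 8 2 = 1 := hstep 8 1 2 (by decide) (by decide) (by decide) (by decide) (by decide) p81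
  have p24 : c 2 4 = 1 := hsymm 4 2 p42
  have p25 : c 2 5 = 1 := hsymm 5 2 p52
  have p53 : c 5 3 = 1 := hstep 5 2 3 (by decide) (by decide) (by decide) (by decide) (by decide) p52
  have p26 : c 2 6 = 1 := hsymm 6 2 p62
  have p63 : c 6 3 = 1 := hstep 6 2 3 (by decide) (by decide) (by decide) (by decide) (by decide) p62
  have p27 : c 2 7 = 1 := hsymm 7 2 p72
  have p28 : c 2 8 = 1 := hsymm 8 2 p82
  have p83 : c 8 3 = 1 := hstep 8 2 3 (by decide) (by decide) (by decide) (by decide) (by decide) p82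
  have p35 : c 3 5 = 1 := hsymm 5 3 p53
  have p57 : c 5 7 = 1 := hstep 5 3 7 (by decide) (by decide) (by decide) (by decide) (by decide) p53
  have p36 : c 3 6 = 1 := hsymm 6 3 p63
  have p64 : c 6 4 = 1 := hstep 6 3 4 (by decide) (by decide) (by decide) (by decide) (by decide) p63
  have p67 : c 6 7 = 1 := hstep 6 3 7 (by decide) (by decide) (by decide) (by decide) (by decide) p63
  have p38 : c 3 8 = 1 := hsymm 8 3 p83
  have p84 : c 8 4 = 1 := hstep 8 3 4 (by decide) (by decide) (by decide) (by decide) (by decide) p83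
  have p75 : c 7 5 = 1 := hsymm 5 7 p57
  have p58 : c 5 8 = 1 := hstep 5 7 8 (by decide) (by decide) (by decide) (by decide) (by decide) p57
  have p46 : c 4 6 = 1 := hsymm 6 4 p64
  have p76 : c 7 6 = 1 := hsymm 6 7 p67
  have p68 : c 6 8 = 1 := hstep 6 7 8 (by decide) (by decide) (by decide) (by decide) (by decide) p67
  have p48 : c 4 8 = 1 := hsymm 8 4 p84
  have p85 : c 8 5 = 1 := hstep 8 4 5 (by decide) (by decide) (by decide) (by decide) (by decide) p84
  have p74 : c 7 4 = 1 := hstep 7 5 4 (by decide) (by decide) (by decide) (by decide) (by decide) p75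
  have p86 : c 8 6 = 1 := hsymm 6 8 p68
  have p47 : c 4 7 = 1 := hstep 4 8 7 (by decide) (by decide) (by decide) (by decide) (by decide) p48
  have hcomm : ∀ x y, x < 9 → y < 9 → x ≠ y → adjL x y = false → c x y = 1 := by
    intro x y hx hy hne ha
    interval_cases x <;> interval_cases y <;> first | assumption | exact absurd rfl hne | exact absurd ha (by decide)
  -- normalise along the tree
  have hfix : ∀ n, n ≤ 8 → ∃ r : ℕ → Γ, (∀ l, l < 9 → σ (r l) = eG l) ∧
      ∀ k, k ≤ n → 0 < k → r (par k) * r k * r (par k) = r k * r (par k) * r k := by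
    intro n
    induction n with
    | zero => intro _; exact ⟨r₀, fun l _ => hr₀ l, fun k hk h0 => by omega⟩
    | succ n ih =>
      intro hn
      obtain ⟨r, hr, hb⟩ := ih (by omega)
      have hp : par (n + 1) ≤ n ∧ adjL (par (n + 1)) (n + 1) = true := by
        have : n < 8 := by omega
        interval_cases n <;> decide
      set p := r (par (n + 1)) with hpdef
      set q := r (n + 1) with hqdef
      set z := p * q * p * (q * p * q)⁻¹ with hzdef
      have hz : σ z = 1 := by
        rw [hzdef, map_mul, map_inv, mul_inv_eq_one]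
        simp only [hpdef, hqdef, map_mul, hr _ (show par (n + 1) < 9 by omega), hr _ (show n + 1 < 9 by omega)]
        exact eG_cox.braid _ _ (by omega) (by omega) hp.2
      refine ⟨Function.update r (n + 1) (z * q), fun l hl => ?_, fun k hk h0 => ?_⟩
      · rcases eq_or_ne l (n + 1) with rfl | hne
        · rw [Function.update_self, map_mul, hz, one_mul, hqdef, hr _ hl]
        · rw [Function.update_of_ne hne, hr _ hl]
      · have hpk : par k < k := by
          have : k ≤ 8 := by omega
          interval_cases k <;> decide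
        rw [Function.update_of_ne (show par k ≠ n + 1 by omega)]
        rcases eq_or_ne k (n + 1) with rfl | hne
        · rw [Function.update_self, ← hpdef]
          have cz : ∀ x : Γ, x * z = z * x := cen _ hz
          have eq1 : p * q * p = z * (q * p * q) := by rw [hzdef, inv_mul_cancel_right]
          calc p * (z * q) * p = z * (p * q * p) := by
                rw [← mul_assoc p, cz p]; simp only [mul_assoc]
            _ = z * (z * (q * p * q)) := by rw [eq1]
            _ = z * q * p * (z * q) := by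
                rw [← mul_assoc (z * q * p) z q, cz (z * q * p)]
                simp only [mul_assoc]
        · rw [Function.update_of_ne hne]
          exact hb k (by omega) h0
  obtain ⟨r, hr, hb⟩ := hfix 8 le_rfl
  refine ⟨r, hr, fun x y hx hy hne ha => commutatorElement_eq_one_iff_mul_comm.1 ?_,
    fun k hk h0 => hb k (by omega) h0⟩
  rw [Cfsg.Agent.H87.CoxeterStem.commutator_congr hc ((hr x hx).trans (hr₀ x).symm)
    ((hr y hy).trans (hr₀ y).symm)]
  exact hcomm x y hx hy hne ha

/-- The kernel of a finite stem extension of Fi22 is an image of the cyclic group of order six. -/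
theorem exists_surjection_six [Finite Γ] (hσ : Cfsg.IsStemExtension σ) :
    ∃ f : Multiplicative (ZMod 6) →* σ.ker, Function.Surjective f := by
  classical
  have : IsSimpleGroup GG := Fi22Top.isSimple
  obtain ⟨hs, hc, hk⟩ := hσ
  obtain ⟨r, hr, hcm, hbr⟩ := exists_lifts hs hc
  have cen : ∀ z, σ z = 1 → ∀ x : Γ, x * z = z * x := fun z hz x =>
    mem_center_iff.1 (hc (MonoidHom.mem_ker.2 hz)) x
  have hsq : ∀ x, x < 9 → σ (r x * r x) = 1 := fun x hx => by
    rw [map_mul, hr x hx]; exact eG_cox.sq x hx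
  set a := r 0 * r 0 with ha
  have haK : σ a = 1 := hsq 0 (by decide)
  have hall : ∀ x, x < 9 → r x * r x = a := by
    intro x
    induction x using Nat.strong_induction_on with
    | _ x ih =>
      intro hx
      rcases Nat.eq_zero_or_pos x with rfl | h0
      · rfl
      have hp : par x < x := by interval_cases x <;> decide
      have hb := hbr x hx h0
      set p := r (par x)
      set q := r x
      have e' : p * q * p * (p * q)⁻¹ = q := by rw [hb]; group
      calc q * q = (p * q) * (p * p) * (p * q)⁻¹ := by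
            conv_lhs => rw [← e']
            group
        _ = a := by rw [ih (par x) hp (by omega), cen a haK (p * q), mul_inv_cancel_right]
  set d := orderOf a with hd
  have hdpos : 0 < d := orderOf_pos a
  have : NeZero (2 * d) := ⟨by omega⟩
  let C := Multiplicative (ZMod (2 * d))
  let cg : C := Multiplicative.ofAdd 1
  have hcord : orderOf cg = 2 * d := by
    rw [orderOf_ofAdd_eq_addOrderOf, ZMod.addOrderOf_one]
  set N : Subgroup (Γ × C) := zpowers (a, cg ^ 2) with hN
  haveI hNn : N.Normal := by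
    refine ⟨fun x hx y => ?_⟩
    obtain ⟨i, rfl⟩ := hx
    have : Commute y ((a, cg ^ 2) ^ i) :=
      Commute.zpow_right (Prod.ext (cen a haK y.1) (mul_comm _ _)) i
    show y * (a, cg ^ 2) ^ i * y⁻¹ ∈ N
    rw [this.eq, mul_inv_cancel_right]
    exact zpow_mem_zpowers _ _
  let q := QuotientGroup.mk' N
  have hq : q (a, cg ^ 2) = 1 := (QuotientGroup.eq_one_iff _).2 (mem_zpowers _)
  let ι : Γ →* (Γ × C) ⧸ N := q.comp (MonoidHom.inl _ _)
  have hι : Function.Injective ι := by
    rw [injective_iff_map_eq_one]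
    intro x hx
    obtain ⟨i, hi⟩ := (QuotientGroup.eq_one_iff _).1 (show q (x, 1) = 1 from hx)
    have h1 : a ^ i = x := congrArg Prod.fst hi
    have h2 : (cg ^ 2) ^ i = 1 := congrArg Prod.snd hi
    rw [← zpow_natCast, ← zpow_mul, ← orderOf_dvd_iff_zpow_eq_one, hcord] at h2
    have h3 : (d : ℤ) ∣ i := by
      push_cast at h2
      exact (mul_dvd_mul_iff_left (two_ne_zero)).1 h2
    rw [← h1, ← orderOf_dvd_iff_zpow_eq_one]
    exact h3
  let X := ((Γ × C) ⧸ N) × Multiplicative (ZMod 2)
  let odd : Multiplicative (ZMod 2) := Multiplicative.ofAdd 1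
  have hodd : odd * odd = 1 := by decide
  let e : ℕ → X := fun l => (q (r l, cg), odd)
  have hcox : CoxRel e := by
    refine ⟨fun x hx => Prod.ext ?_ hodd, fun x y hx hy hne hadj => Prod.ext ?_ rfl,
      fun x y hx hy hadj => Prod.ext ?_ rfl⟩
    · show q (r x, cg) * q (r x, cg) = 1
      rw [← map_mul, Prod.mk_mul_mk, hall x hx, ← pow_two, hq]
    · show q (r x, cg) * q (r y, cg) = q (r y, cg) * q (r x, cg)
      rw [← map_mul, ← map_mul, Prod.mk_mul_mk, Prod.mk_mul_mk, hcm x y hx hy hne hadj]
    · show q (r x, cg) * q (r y, cg) * q (r x, cg) = q (r y, cg) * q (r x, cg) * q (r y, cg)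
      simp only [← map_mul, Prod.mk_mul_mk]
      congr 2
      interval_cases x <;> interval_cases y <;> first
        | exact absurd hadj (by decide)
        | exact hbr 1 (by decide) (by decide)
        | exact (hbr 1 (by decide) (by decide)).symm
        | exact hbr 2 (by decide) (by decide)
        | exact (hbr 2 (by decide) (by decide)).symm
        | exact hbr 3 (by decide) (by decide)
        | exact (hbr 3 (by decide) (by decide)).symm
        | exact hbr 4 (by decide) (by decide)
        | exact (hbr 4 (by decide) (by decide)).symm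
        | exact hbr 5 (by decide) (by decide)
        | exact (hbr 5 (by decide) (by decide)).symm
        | exact hbr 6 (by decide) (by decide)
        | exact (hbr 6 (by decide) (by decide)).symm
        | exact hbr 7 (by decide) (by decide)
        | exact (hbr 7 (by decide) (by decide)).symm
        | exact hbr 8 (by decide) (by decide)
        | exact (hbr 8 (by decide) (by decide)).symm
  let π₁ : (Γ × C) ⧸ N →* GG := QuotientGroup.lift N (σ.comp (MonoidHom.fst _ _)) (by
    rw [hN, zpowers_le]; exact haK)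
  let π : X →* GG := π₁.comp (MonoidHom.fst _ _)
  have hπc : ∀ x : X, π x = 1 → x ∈ center X := by
    rintro ⟨y, t⟩ hx
    obtain ⟨⟨g, b⟩, rfl⟩ := QuotientGroup.mk'_surjective N y
    refine mem_center_iff.2 ?_
    rintro ⟨y', t'⟩
    obtain ⟨⟨g', b'⟩, rfl⟩ := QuotientGroup.mk'_surjective N y'
    refine Prod.ext ?_ (mul_comm _ _)
    show q (g', b') * q (g, b) = q (g, b) * q (g', b')
    rw [← map_mul, ← map_mul, Prod.mk_mul_mk, Prod.mk_mul_mk, cen g hx g', mul_comm b']
  have hπe : ∀ l, l < 9 → π (e l) = eG l := fun l hl => hr l hl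
  have hval : ∀ w ∈ Fi22Pres.pres.Rx, evalW e w ∈ center X := by
    intro w hw
    refine hπc _ ?_
    rw [← eG_rel (List.mem_append_right Fi22Pres.pres.Rc hw)]
    simp only [evalW, map_list_prod, List.map_map]
    exact congrArg List.prod (List.map_congr_left fun l hl =>
      hπe l (R_mem_lt (List.mem_append_right _ hw) l hl))
  rw [Rx_eq] at hval
  have hS := hval wS (by simp)
  have hA := hval wA (by simp)
  have hB := hval wB (by simp)
  have hS3 := hcox.spider_cube hS
  have hA2 : evalW e wA * evalW e wA = 1 := hcox.seven_sq (g := [0, 1, 0, 2, 1, 0, 3, 2, 1, 0, 7, 4, 3, 2, 1, 0]) rfl (by decide)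
    hA seven_word1
  have hB2 : evalW e wB * evalW e wB = 1 := hcox.seven_sq (g := [1, 2, 1, 3, 2, 1, 7, 4, 3, 2, 1, 7, 5, 4, 3, 2, 1]) rfl (by decide)
    hB seven_word2
  set zS := evalW e wS with hzS
  set zA := evalW e wA with hzA
  set zB := evalW e wB with hzB
  have par2 : ∀ w : List ℕ, (evalW e w).2 = odd ^ w.length := fun w => by
    induction w with
    | nil => rfl
    | cons x w ih => rw [evalW_cons, Prod.snd_mul, ih, List.length_cons, pow_succ']
  have pS : zS.2 = 1 := by rw [hzS, par2]; decide +kernel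
  have pA : zA.2 = odd := by rw [hzA, par2]; decide +kernel
  have pB : zB.2 = odd := by rw [hzB, par2]; decide +kernel
  -- the cyclic group
  set v := zS * (zA * zB) with hv
  have cAB : zA * zB = zB * zA := (mem_center_iff.1 hA zB).symm
  have hab2 : (zA * zB) ^ 2 = 1 := by
    rw [(show Commute zA zB from cAB).mul_pow, pow_two, pow_two, hA2, one_mul]
    exact hB2
  have cSv : Commute zS (zA * zB) := (mem_center_iff.1 hS (zA * zB)).symm
  have hv6 : v ^ 6 = 1 := by
    rw [hv, cSv.mul_pow, show 6 = 3 * 2 from rfl, pow_mul, hS3, one_pow, one_mul,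
      show 3 * 2 = 2 * 3 from rfl, pow_mul, hab2, one_pow]
  have hzS' : zS ∈ zpowers v := by
    refine ⟨4, ?_⟩
    show v ^ (4 : ℤ) = zS
    rw [show (4 : ℤ) = ((4 : ℕ) : ℤ) from rfl, zpow_natCast, hv, cSv.mul_pow,
      show 4 = 2 * 2 from rfl, pow_mul (zA * zB), hab2, one_pow, mul_one,
      show 2 * 2 = 3 + 1 from rfl, pow_succ, hS3, one_mul]
  have hzAB' : zA * zB ∈ zpowers v := by
    have : zA * zB = zS⁻¹ * v := by rw [hv, inv_mul_cancel_left]
    rw [this]
    exact mul_mem (inv_mem hzS') (mem_zpowers v)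
  have hNv : (zpowers v).Normal := ⟨fun n hn g => by
    have hvc : v ∈ center X := mul_mem hS (mul_mem hA hB)
    rw [mem_center_iff.1 (zpowers_le.2 hvc hn) g, mul_inv_cancel_right]; exact hn⟩
  have hT : closure ({zS, zA, zB} : Set X) ≤ zpowers v ⊔ zpowers zA := by
    rw [closure_le]
    rintro y (rfl | rfl | rfl)
    · exact mem_sup_left hzS'
    · exact mem_sup_right (mem_zpowers _)
    · have : zB = zA⁻¹ * (zA * zB) := by rw [inv_mul_cancel_left]
      rw [SetLike.mem_coe, this]
      exact mul_mem (mem_sup_right (inv_mem (mem_zpowers _))) (mem_sup_left hzAB')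
  -- the image of Γ
  let gens := closure {g : X | ∃ l < 9, e l = g}
  let p₁ : X →* (Γ × C) ⧸ N := MonoidHom.fst _ _
  let Pc : Subgroup ((Γ × C) ⧸ N) := gens.map p₁ ⊔ center _
  have hcentralC : ∀ y, q (1, y) ∈ center ((Γ × C) ⧸ N) := fun y => by
    rw [mem_center_iff]
    intro z
    obtain ⟨⟨x, y'⟩, rfl⟩ := QuotientGroup.mk'_surjective N z
    show q (x, y') * q (1, y) = q (1, y) * q (x, y')
    rw [← map_mul, ← map_mul, Prod.mk_mul_mk, Prod.mk_mul_mk, mul_one, one_mul, mul_comm y']
  have hP : ∀ x : Γ, ι x ∈ Pc := by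
    have hr' : ∀ l, l < 9 → ι (r l) ∈ Pc := fun l hl => by
      have : ι (r l) = p₁ (e l) * q (1, cg⁻¹) := by
        show q (r l, 1) = q (r l, cg) * q (1, cg⁻¹)
        rw [← map_mul, Prod.mk_mul_mk, mul_one, mul_inv_cancel]
      rw [this]
      exact mul_mem (mem_sup_left (mem_map_of_mem _ (subset_closure ⟨l, hl, rfl⟩)))
        (mem_sup_right (hcentralC _))
    have hz : ∀ z, σ z = 1 → ι z ∈ Pc := fun z hz => mem_sup_right (by
      rw [mem_center_iff]
      intro w
      obtain ⟨⟨x, y'⟩, rfl⟩ := QuotientGroup.mk'_surjective N w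
      show q (x, y') * q (z, 1) = q (z, 1) * q (x, y')
      rw [← map_mul, ← map_mul, Prod.mk_mul_mk, Prod.mk_mul_mk, mul_one, one_mul, cen z hz x])
    have hsurj : (Pc.comap ι).map σ = ⊤ := by
      rw [eq_top_iff, ← eG_gen, closure_le]
      rintro _ ⟨l, hl, rfl⟩
      exact ⟨r l, hr' l hl, hr l hl⟩
    intro x
    obtain ⟨y, hy, hyx⟩ : σ x ∈ (Pc.comap ι).map σ := hsurj ▸ mem_top _
    have h2 := hz (y⁻¹ * x) (by rw [map_mul, map_inv, hyx, inv_mul_cancel])
    rw [map_mul, map_inv] at h2
    simpa using mul_mem (mem_comap.1 hy) h2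
  have hperf : commutator GG = ⊤ := by
    rcases (inferInstance : (commutator GG).Normal).eq_bot_or_eq_top with h | h
    · exfalso
      have hcc := eG_cox.braid 0 1 (by decide) (by decide) (by decide)
      have hab : eG 0 * eG 1 = eG 1 * eG 0 := by
        rw [← commutatorElement_eq_one_iff_mul_comm, ← mem_bot, ← h]
        exact commutator_mem_commutator (mem_top _) (mem_top _)
      rw [hab] at hcc
      have h01 : eG 0 = eG 1 := by
        have := mul_left_cancel (a := eG 1) (b := eG 0 * eG 0) (c := eG 0 * eG 1)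
          (by simpa [mul_assoc] using hcc)
        exact mul_left_cancel this
      exact eG01 h01
    · exact h
  have hΓ : commutator Γ = ⊤ := by
    obtain ⟨hmap, -⟩ := Cfsg.Agent.H74.Schur.commutator_perfect hs hc
      (Group.isPerfect_def.2 hperf)
    refine eq_top_iff.2 fun x _ => ?_
    obtain ⟨y, hy, hyx⟩ : σ x ∈ (commutator Γ).map σ := hmap ▸ mem_top _
    have : y⁻¹ * x ∈ commutator Γ :=
      hk (by rw [MonoidHom.mem_ker, map_mul, map_inv, hyx, inv_mul_cancel])
    simpa using mul_mem hy this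
  have hrange : ι.range ≤ ⁅gens, gens⁆.map p₁ := by
    rw [MonoidHom.range_eq_map, ← hΓ, commutator_def, Subgroup.map_commutator, commutator_le]
    rintro _ ⟨x, -, rfl⟩ _ ⟨y, -, rfl⟩
    obtain ⟨_, ⟨w, hw, rfl⟩, z, hz, hxe⟩ := mem_sup_of_normal_right.1 (hP x)
    obtain ⟨_, ⟨w', hw', rfl⟩, z', hz', hye⟩ := mem_sup_of_normal_right.1 (hP y)
    rw [← hxe, ← hye, commutatorElement_def,
      Cfsg.Agent.H74.Schur.commutatorElement_mul_central hz hz', ← commutatorElement_def,
      ← map_commutatorElement]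
    exact mem_map_of_mem _ (commutator_mem_commutator hw hw')
  have hker : ∀ z : σ.ker, ι (z : Γ) ∈ (zpowers v).map p₁ := by
    rintro ⟨z, hz⟩
    obtain ⟨w, hw, hwz⟩ : ι z ∈ ⁅gens, gens⁆.map p₁ := hrange ⟨z, rfl⟩
    have hw1 : π w = 1 := by
      show π₁ (p₁ w) = 1
      rw [hwz]
      exact hz
    have hw2 : w.2 = 1 := by
      have hle : ⁅gens, gens⁆ ≤ (MonoidHom.snd ((Γ × C) ⧸ N) (Multiplicative (ZMod 2))).ker := by
        rw [commutator_le]
        intro x _ y _
        rw [MonoidHom.mem_ker, map_commutatorElement, commutatorElement_eq_one_iff_mul_comm]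
        exact mul_comm _ _
      exact hle hw
    have hmem := hT (ker_mem hcox hS hA hB π hπe
      ((commutator_le.2 fun x hx y hy => by
        rw [commutatorElement_def]; exact mul_mem (mul_mem (mul_mem hx hy) (inv_mem hx)) (inv_mem hy)) hw) hw1)
    obtain ⟨s, hs', t, ht, hst⟩ := mem_sup_of_normal_left.1 hmem
    have hs2 : s.2 = 1 := by
      have : zpowers v ≤ (MonoidHom.snd ((Γ × C) ⧸ N) (Multiplicative (ZMod 2))).ker := by
        rw [zpowers_le, MonoidHom.mem_ker, hv]
        show zS.2 * (zA.2 * zB.2) = 1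
        rw [pS, pA, pB, hodd, one_mul]
      exact this hs'
    have ht1 : t = 1 := by
      obtain ⟨i, rfl⟩ := ht
      rcases Int.even_or_odd i with ⟨k, rfl⟩ | ⟨k, rfl⟩
      · show zA ^ (k + k) = 1
        rw [← two_mul, zpow_mul, zpow_two, hA2, one_zpow]
      · exfalso
        have h2 := congrArg Prod.snd hst
        rw [Prod.snd_mul, hs2, one_mul, hw2] at h2
        have h3 : (zA ^ (2 * k + 1) : X) = zA := by
          rw [zpow_add, zpow_mul, zpow_two, hA2, one_zpow, one_mul, zpow_one]
        rw [show (fun x : ℤ => zA ^ x) (2 * k + 1) = zA from h3, pA] at h2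
        exact absurd h2 (by decide)
    rw [← hwz, ← hst, ht1, mul_one]
    exact mem_map_of_mem _ hs'
  rw [MonoidHom.map_zpowers] at hker
  let ψ : σ.ker →* zpowers (p₁ v) :=
    { toFun := fun z => ⟨ι (z : Γ), hker z⟩
      map_one' := Subtype.ext (map_one ι)
      map_mul' := fun x y => Subtype.ext (map_mul ι _ _) }
  have hψ : Function.Injective ψ := fun x y h => Subtype.ext (hι (congrArg Subtype.val h))
  have : IsCyclic σ.ker := isCyclic_of_injective ψ hψ
  obtain ⟨k, hk'⟩ := IsCyclic.exists_generator (α := σ.ker)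
  have hk6 : k ^ (6 : ℕ) = 1 := by
    apply hψ
    rw [map_pow, map_one]
    obtain ⟨i, hi⟩ := (ψ k).2
    refine Subtype.ext ?_
    rw [SubmonoidClass.coe_pow, ← hi]
    show ((p₁ v) ^ i) ^ (6 : ℕ) = 1
    rw [← zpow_natCast, ← zpow_mul, mul_comm i, zpow_mul, zpow_natCast, ← map_pow, hv6, map_one,
      one_zpow]
  let f : Multiplicative (ZMod 6) →* σ.ker := AddMonoidHom.toMultiplicativeLeft
    (ZMod.lift 6 ⟨(zmultiplesHom (Additive σ.ker)) (Additive.ofMul k), by
      show (6 : ℤ) • Additive.ofMul k = 0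
      rw [← ofMul_zpow, show (6 : ℤ) = ((6 : ℕ) : ℤ) from rfl, zpow_natCast, hk6, ofMul_one]⟩)
  refine ⟨f, fun z => ?_⟩
  obtain ⟨i, hi⟩ := mem_zpowers_iff.1 (hk' z)
  refine ⟨Multiplicative.ofAdd (i : ZMod 6), ?_⟩
  rw [← hi]
  simp [f]

end Cfsg.Agent.H78.Fi22Mult
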