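import Cfsg.Agent.H78.Fi22Mult.MoveData
import Cfsg.Agent.H45.Fi22Pres

/-!
Groups generated by nine involutions satisfying the graph relations in which the three further
relators of Fi22 are central: orders of the three values, and the kernel onto Fi22.
-/

set_option autoImplicit false

namespace Cfsg.Agent.H78.Fi22Mult

open Cfsg.Spor Cfsg.Agent.H45
open Subgroup

/-- the spider word -/
def wS : List ℕ := (List.replicate 10 [3, 2, 1, 3, 4, 5, 3, 7, 8]).flatten

/-- the first word of length seven, nine times -/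
def wA : List ℕ := (List.replicate 9 [0, 1, 2, 3, 4, 5, 7]).flatten

/-- the second word of length seven, nine times -/
def wB : List ℕ := (List.replicate 9 [1, 2, 3, 4, 5, 6, 7]).flatten

theorem evalW_rep {X : Type*} [Group X] (e : ℕ → X) (n : ℕ) (w : List ℕ) :
    evalW e (List.replicate n w).flatten = evalW e w ^ n := by
  induction n with
  | zero => simp [evalW]
  | succ n ih => rw [List.replicate_succ, List.flatten_cons, evalW_append, ih, pow_succ']

section

variable {X : Type*} [Group X] {e : ℕ → X}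

theorem CoxRel.evalW_reverse (h : CoxRel e) :
    ∀ w : List ℕ, (∀ l ∈ w, l < 9) → evalW e w.reverse = (evalW e w)⁻¹ := by
  intro w
  induction w with
  | nil => intro _; simp [evalW]
  | cons x w ih =>
    intro hw
    rw [List.reverse_cons, evalW_append, ih fun l hl => hw l (List.mem_cons_of_mem _ hl)]
    simp only [evalW_cons, evalW_nil, mul_one, mul_inv_rev]
    congr 1
    exact eq_inv_of_mul_eq_one_left (h.sq x (hw x List.mem_cons_self))

theorem CoxRel.seven_sq (h : CoxRel e) {w g : List ℕ} {ms : List ℕ}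
    (hw : w.length = 7) (hg : g.all (fun l => Nat.blt l 9) = true)
    (hc : evalW e (List.replicate 9 w).flatten ∈ center X)
    (hm : movesOK ms (g ++ (w ++ (g.reverse ++ w))) = true) :
    evalW e (List.replicate 9 w).flatten * evalW e (List.replicate 9 w).flatten = 1 := by
  have _ := hw
  have h1 := movesOK_sound h _ _ hm
  simp only [evalW_append] at h1
  rw [h.evalW_reverse g (fun l hl => Nat.blt_eq.mp (List.all_eq_true.mp hg l hl))] at h1
  rw [evalW_rep] at hc ⊢
  have h2 : evalW e g * evalW e w * (evalW e g)⁻¹ = (evalW e w)⁻¹ :=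
    eq_inv_of_mul_eq_one_left (by simpa [mul_assoc] using h1)
  have h3 := congrArg (· ^ 9) h2
  simp only [conj_pow, inv_pow] at h3
  rw [mem_center_iff.1 hc (evalW e g), mul_inv_cancel_right] at h3
  exact mul_eq_one_iff_eq_inv.2 h3

theorem CoxRel.spider_cube (h : CoxRel e) (hc : evalW e wS ∈ center X) : evalW e wS ^ 3 = 1 := by
  have h1 := movesOK_sound h _ _ spider_word
  simp only [evalW_append] at h1
  rw [h.evalW_reverse _ (by decide +kernel)] at h1
  set z := evalW e wS with hz
  have hz' : evalW e (List.replicate 10 [3, 2, 1, 3, 4, 5, 3, 7, 8]).flatten = z := rfl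
  rw [hz'] at h1
  have hi : z⁻¹ ∈ center X := inv_mem hc
  have key : ∀ (g g' : X), g * g' = 1 → g * (z⁻¹ * g') = z⁻¹ := by
    intro g g' hgg
    rw [← mul_assoc, mem_center_iff.1 hi g, mul_assoc, hgg, mul_one]
  have hgg : ∀ g : List ℕ, (∀ l ∈ g, l < 9) → evalW e g * evalW e g.reverse = 1 := fun g hg => by
    rw [h.evalW_reverse g hg, mul_inv_cancel]
  have r1 : evalW e [2, 5, 7, 8] = evalW e [8, 7, 5, 2].reverse := rfl
  have r2 : evalW e [3, 2, 4, 3] = evalW e [3, 4, 2, 3].reverse := rfl
  rw [r1, r2] at h1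
  rw [key _ _ (hgg [3, 4, 2, 3] (by decide))] at h1
  rw [← mul_assoc (z⁻¹) (evalW e [8, 7, 5, 2].reverse), ← mul_assoc (evalW e [8, 7, 5, 2]),
    key _ _ (hgg [8, 7, 5, 2] (by decide)), ← mul_assoc] at h1
  rw [pow_succ, pow_two]
  have := inv_eq_one.2 h1
  simpa [mul_inv_rev, mul_assoc] using this

end

/-- the graph relators reduce to the empty word -/
def relMoves : List ℕ → List ℕ
  | [_, _] => [2]
  | [_, _, _, _] => [4, 2, 2]
  | _ => [1, 10, 6, 2]

theorem relMoves_ok : (Fi22Pres.pres.Rc.all fun w => movesOK (relMoves w) w) = true := by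
  decide +kernel

theorem gl_ix : ∀ x : Fi22.Gen, ixOf Fi22Pres.pres.gl x < 9 := by intro x; cases x <;> decide

theorem eOf_comp {X : Type} [Group X] (e : ℕ → X) {l : ℕ} (hl : l < 9) :
    eOf Fi22Pres.pres.gl (fun x => e (ixOf Fi22Pres.pres.gl x)) l = e l := by
  interval_cases l <;> rfl

theorem evalW_comp {X : Type} [Group X] (e : ℕ → X) {w : List ℕ} (hw : ∀ l ∈ w, l < 9) :
    evalW (eOf Fi22Pres.pres.gl (fun x => e (ixOf Fi22Pres.pres.gl x))) w = evalW e w :=
  congrArg List.prod (List.map_congr_left fun l hl => eOf_comp e (hw l hl))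

theorem Rx_eq : Fi22Pres.pres.Rx = [wS, wA, wB] := by decide +kernel

theorem R_lt : (Fi22Pres.pres.R.all fun w => w.all fun l => Nat.blt l 9) = true := by decide +kernel

theorem R_mem_lt {w : List ℕ} (hw : w ∈ Fi22Pres.pres.R) : ∀ l ∈ w, l < 9 := fun l hl =>
  Nat.blt_eq.mp (List.all_eq_true.mp (List.all_eq_true.mp R_lt w hw) l hl)

/-- The kernel onto Fi22 is generated by the three values. -/
theorem ker_mem {X : Type} [Group X] {e : ℕ → X} (h : CoxRel e)
    (hS : evalW e wS ∈ center X) (hA : evalW e wA ∈ center X) (hB : evalW e wB ∈ center X)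
    (π : X →* Fi22Pres.pres.Gp) (hπ : ∀ l, l < 9 → π (e l) = Fi22Pres.pres.e l)
    {x : X} (hx : x ∈ closure {g | ∃ l < 9, e l = g}) (h1 : π x = 1) :
    x ∈ closure ({evalW e wS, evalW e wA, evalW e wB} : Set X) := by
  set f : Fi22.Gen → X := fun x => e (ixOf Fi22Pres.pres.gl x) with hf
  set T := closure ({evalW e wS, evalW e wA, evalW e wB} : Set X) with hTdef
  have hT : T ≤ center X := by
    rw [hTdef, closure_le]
    rintro y (rfl | rfl | rfl) <;> assumption
  haveI : T.Normal := ⟨fun n hn g => by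
    rw [mem_center_iff.1 (hT hn) g, mul_inv_cancel_right]; exact hn⟩
  have hP := Fi22Pres.ok
  have hcox : CoxHolds Fi22Pres.pres.edges f := coxHolds_of_words hP.all hP.check fun w hw => by
    rw [hf, evalW_comp e (R_mem_lt (List.mem_append_left _ hw))]
    exact movesOK_sound h _ _ (List.all_eq_true.mp relMoves_ok w hw)
  have hrels : ∀ r ∈ coxRelators Fi22.edges ∪ {r | r ∈ Fi22.extra}, FreeGroup.lift f r ∈ T := by
    rintro r (⟨a, ha, b, hb, rfl⟩ | hr)
    · rw [map_pow, map_mul, FreeGroup.lift_apply_of, FreeGroup.lift_apply_of,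
        show (f a * f b) ^ coxLabel Fi22.edges a b = 1 from hcox a ha b hb]
      exact one_mem _
    · have h2 := hP.extra_eval X f
        (fun y => (eq_inv_of_mul_eq_one_left (h.sq _ (gl_ix y))).symm)
      have h3 : FreeGroup.lift f r ∈ Fi22Pres.pres.extra.map (FreeGroup.lift f) :=
        List.mem_map.mpr ⟨r, hr, rfl⟩
      rw [h2, List.mem_map] at h3
      obtain ⟨w, hw, hwr⟩ := h3
      rw [← hwr, hf, evalW_comp e (R_mem_lt (List.mem_append_right _ hw))]
      rw [Rx_eq] at hw
      simp only [List.mem_cons, List.not_mem_nil, or_false] at hw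
      rcases hw with rfl | rfl | rfl <;> exact subset_closure (by simp)
  have hxr : x ∈ (FreeGroup.lift f).range := by
    refine (closure_le _).2 ?_ hx
    rintro _ ⟨l, hl, rfl⟩
    refine ⟨FreeGroup.of (Fi22Pres.pres.gl.getD l .a), ?_⟩
    rw [FreeGroup.lift_apply_of, hf]
    interval_cases l <;> rfl
  obtain ⟨w, rfl⟩ := hxr
  have hcomp : π.comp (FreeGroup.lift f) =
      PresentedGroup.mk (coxRelators Fi22.edges ∪ {r | r ∈ Fi22.extra}) := FreeGroup.ext_hom _ _ fun y => by
    rw [MonoidHom.comp_apply, FreeGroup.lift_apply_of, hf, hπ _ (gl_ix y)]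
    exact eOf_ix (hP.all y)
  have hw : w ∈ Subgroup.normalClosure (coxRelators Fi22.edges ∪ {r | r ∈ Fi22.extra}) := by
    rw [← PresentedGroup.mk_eq_one_iff, ← hcomp]
    exact h1
  exact Subgroup.normalClosure_le_normal (N := T.comap (FreeGroup.lift f)) hrels hw

end Cfsg.Agent.H78.Fi22Mult
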