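import Cfsg.Agent.H78.Fi22Mult.TripleCheck
import Cfsg.Agent.H78.Fi22Mult.Bound

/-!
The generators of the triple cover as invertible matrices.
-/

set_option autoImplicit false

namespace Cfsg.Agent.H78.Fi22Mult

open Cfsg.Agent.H45

/-- invertible matrices of size 54 -/
abbrev GL54 : Type := GL (Fin 54) (ZMod 2)

theorem tall_mem : ∀ g ∈ tall, g.length = 54 := fun g hg =>
  Nat.beq_eq.mp (List.all_eq_true.mp tall_len g hg)

theorem tall_length : tall.length = 10 := by decide +kernel

theorem bmat_word {w v : List ℕ} (hw : ∀ l ∈ w, l < 10)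
    (h : prodR tall (idR 54) w = v) :
    (w.map fun l => bmat 54 (tall.getD l [])).prod = bmat 54 v := by
  rw [← h, bmat_prodR (by simp [idR]) tall_mem w (by rw [tall_length]; exact hw), bmat_idR, mul_one]

theorem tgen_sq (l : ℕ) (h : l < 9) : bmat 54 (tall.getD l []) * bmat 54 (tall.getD l []) = 1 := by
  have hc := List.all_eq_true.mp tcox [l, l] (by interval_cases l <;> decide +kernel)
  have := bmat_word (by simp; omega) (of_decide_eq_true hc)
  simpa [bmat_idR] using this

/-- the matrix of a letter -/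
noncomputable def tmL (l : ℕ) : GL54 :=
  if h : l < 9 then ⟨bmat 54 (tall.getD l []), bmat 54 (tall.getD l []), tgen_sq l h, tgen_sq l h⟩ else 1

theorem tmL_word {w : List ℕ} (hw : ∀ l ∈ w, l < 9) :
    ((evalW tmL w : GL54) : Matrix (Fin 54) (Fin 54) (ZMod 2)) =
      (w.map fun l => bmat 54 (tall.getD l [])).prod := by
  induction w with
  | nil => simp [evalW]
  | cons l w ih =>
    rw [evalW_cons, Units.val_mul, ih fun m hm => hw m (List.mem_cons_of_mem _ hm), List.map_cons,
      List.prod_cons]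
    simp [tmL, hw l List.mem_cons_self]

theorem tm_eval {w v : List ℕ} (hw : ∀ l ∈ w, l < 9) (h : prodR tall (idR 54) w = v) :
    ((evalW tmL w : GL54) : Matrix (Fin 54) (Fin 54) (ZMod 2)) = bmat 54 v := by
  rw [tmL_word hw, bmat_word (fun l hl => Nat.lt_of_lt_of_le (hw l hl) (by omega)) h]

theorem tm_cox : CoxRel tmL := CoxRel.of_words fun w hw => by
  apply Units.ext
  rw [tm_eval (R_mem_lt (List.mem_append_left _ hw)) (of_decide_eq_true (List.all_eq_true.mp tcox w hw)),
    bmat_idR, Units.val_one]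

theorem tm_A : evalW tmL wA = 1 := Units.ext <| by
  rw [tm_eval (w := wA) (fun l hl => R_mem_lt (List.mem_append_right _ (by rw [Rx_eq]; simp)) l hl) tseven1,
    bmat_idR, Units.val_one]

theorem tm_B : evalW tmL wB = 1 := Units.ext <| by
  rw [tm_eval (w := wB) (fun l hl => R_mem_lt (List.mem_append_right _ (by rw [Rx_eq]; simp)) l hl) tseven2,
    bmat_idR, Units.val_one]

theorem tm_S_val : ((evalW tmL wS : GL54) : Matrix (Fin 54) (Fin 54) (ZMod 2)) = bmat 54 tscalar :=
  tm_eval (fun l hl => R_mem_lt (List.mem_append_right _ (by rw [Rx_eq]; simp)) l hl) tspider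

theorem tall_nine : tall[9]?.getD [] = tscalar := rfl

theorem tm_S_comm {l : ℕ} (hl : l < 9) : tmL l * evalW tmL wS = evalW tmL wS * tmL l := by
  apply Units.ext
  rw [Units.val_mul, Units.val_mul, tm_S_val]
  have hd := of_decide_eq_true (List.all_eq_true.mp tcentral l (List.mem_range.mpr hl))
  have h1 := bmat_word (w := [l, 9]) (by simp; omega) hd
  rw [← bmat_word (w := [9, l]) (by simp; omega) rfl] at h1
  simpa [tall_nine, tmL, hl] using h1

theorem bmat_bit (A : List ℕ) (i j : Fin 54) : bmat 54 A i j = bit2 ((A.getD i 0).testBit j) := rfl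

theorem tscalar_bit : tscalar.getD 0 0 ≠ 1 ∧ tscalar.getD 0 0 < 2 ^ 54 := by decide +kernel

theorem tm_S_ne : evalW tmL wS ≠ 1 := by
  intro h
  have h1 := congrArg Units.val h
  rw [tm_S_val, Units.val_one, ← bmat_idR] at h1
  have h2 : ∀ j, j < 54 → (tscalar.getD 0 0).testBit j = ((idR 54).getD 0 0).testBit j := by
    intro j hj
    have h3 := congrFun (congrFun h1 ⟨0, by norm_num⟩) ⟨j, hj⟩
    rw [bmat_bit, bmat_bit] at h3
    have hinj : ∀ a b : Bool, bit2 a = bit2 b → a = b := by decide
    exact hinj _ _ h3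
  apply tscalar_bit.1
  apply Nat.eq_of_testBit_eq
  intro j
  rcases Nat.lt_or_ge j 54 with hj | hj
  · rw [h2 j hj]; rfl
  · have hp : (2 : ℕ) ^ 54 ≤ 2 ^ j := Nat.pow_le_pow_right (by norm_num) hj
    rw [Nat.testBit_lt_two_pow (lt_of_lt_of_le tscalar_bit.2 hp), Nat.testBit_lt_two_pow]
    exact lt_of_lt_of_le (by norm_num) hp

end Cfsg.Agent.H78.Fi22Mult
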