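import Cfsg.Agent.H78.Fi22Mult.SignedPerm
import Cfsg.Agent.H78.Fi22Mult.Triple

/-!
The Schur multiplier of Fi22 is cyclic of order six.
-/

set_option autoImplicit false
set_option maxRecDepth 100000

namespace Cfsg.Agent.H78.Fi22Mult

open Cfsg.Spor Cfsg.Agent.H45
open Subgroup

/-- the ambient group -/
abbrev Amb : Type := GG × (GL54 × Equiv.Perm (Fin 28160))

/-- the letters in the ambient group -/
noncomputable def eT (l : ℕ) : Amb := (eG l, (tmL l, pmL l))

/-- the cover -/
abbrev Cov : Subgroup Amb := closure {g | ∃ l < 9, eT l = g}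

/-- the letters in the cover -/
noncomputable def eC (l : ℕ) : Cov :=
  if h : l < 9 then ⟨eT l, subset_closure ⟨l, h, rfl⟩⟩ else 1

theorem eT_eval (w : List ℕ) : evalW eT w = (evalW eG w, (evalW tmL w, evalW pmL w)) := by
  induction w with
  | nil => rfl
  | cons x w ih => rw [evalW_cons, ih]; rfl

theorem eC_val {w : List ℕ} (hw : ∀ l ∈ w, l < 9) : ((evalW eC w : Cov) : Amb) = evalW eT w := by
  induction w with
  | nil => rfl
  | cons x w ih =>
    rw [evalW_cons, evalW_cons, Subgroup.coe_mul, ih fun m hm => hw m (List.mem_cons_of_mem _ hm)]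
    simp [eC, hw x List.mem_cons_self]

theorem eC_cox : CoxRel eC := by
  refine ⟨fun x hx => ?_, fun x y hx hy hne ha => ?_, fun x y hx hy ha => ?_⟩ <;>
    refine Subtype.ext ?_
  · simp only [Subgroup.coe_mul, eC, dif_pos hx, eT, Prod.mk_mul_mk, eG_cox.sq x hx, tm_cox.sq x hx,
      pm_cox.sq x hx]
    rfl
  · simp only [Subgroup.coe_mul, eC, dif_pos hx, dif_pos hy, eT, Prod.mk_mul_mk,
      eG_cox.comm x y hx hy hne ha, tm_cox.comm x y hx hy hne ha, pm_cox.comm x y hx hy hne ha]
  · simp only [Subgroup.coe_mul, eC, dif_pos hx, dif_pos hy, eT, Prod.mk_mul_mk,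
      eG_cox.braid x y hx hy ha, tm_cox.braid x y hx hy ha, pm_cox.braid x y hx hy ha]

/-- the projection -/
noncomputable def projC : Cov →* GG := (MonoidHom.fst _ _).comp Cov.subtype

theorem eC_gen : closure {g : Cov | ∃ l < 9, eC l = g} = ⊤ := by
  rw [eq_top_iff, ← Subgroup.closure_closure_coe_preimage, closure_le]
  rintro ⟨g, hg⟩ ⟨l, hl, he⟩
  refine subset_closure ⟨l, hl, Subtype.ext ?_⟩
  simp only [eC, dif_pos hl]
  exact he

theorem central_of_gens {z : Cov} (h : ∀ l, l < 9 → eC l * z = z * eC l) : z ∈ center Cov := by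
  rw [mem_center_iff]
  intro g
  have hg : g ∈ centralizer ({z} : Set Cov) := by
    have : closure {g : Cov | ∃ l < 9, eC l = g} ≤ centralizer ({z} : Set Cov) := by
      rw [closure_le]
      rintro _ ⟨l, hl, rfl⟩
      rw [SetLike.mem_coe, mem_centralizer_singleton_iff]
      exact (h l hl)
    exact this (by rw [eC_gen]; exact mem_top _)
  rw [mem_centralizer_singleton_iff] at hg
  exact hg

theorem lt_of_Rx {w : List ℕ} (hw : w ∈ [wS, wA, wB]) : ∀ l ∈ w, l < 9 :=
  R_mem_lt (List.mem_append_right _ (by rw [Rx_eq]; exact hw))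

theorem G_S : evalW eG wS = 1 := eG_rel (List.mem_append_right _ (by rw [Rx_eq]; simp))

theorem G_A : evalW eG wA = 1 := eG_rel (List.mem_append_right _ (by rw [Rx_eq]; simp))

theorem G_B : evalW eG wB = 1 := eG_rel (List.mem_append_right _ (by rw [Rx_eq]; simp))

theorem zS_val : ((evalW eC wS : Cov) : Amb) = (1, (evalW tmL wS, 1)) := by
  rw [eC_val (lt_of_Rx (by simp)), eT_eval, G_S, pm_S]

theorem zA_val : ((evalW eC wA : Cov) : Amb) = (1, (1, evalW pmL wA)) := by
  rw [eC_val (lt_of_Rx (by simp)), eT_eval, G_A, tm_A]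

theorem zB_val : evalW eC wB = 1 := Subtype.ext <| by
  rw [eC_val (lt_of_Rx (by simp)), eT_eval, G_B, tm_B, pm_B]
  rfl

theorem zS_center : evalW eC wS ∈ center Cov := central_of_gens fun l hl => Subtype.ext (by
  simp only [Subgroup.coe_mul, zS_val, eC, dif_pos hl, eT, Prod.mk_mul_mk, one_mul, mul_one,
    tm_S_comm hl])

theorem zA_center : evalW eC wA ∈ center Cov := central_of_gens fun l hl => Subtype.ext (by
  simp only [Subgroup.coe_mul, zA_val, eC, dif_pos hl, eT, Prod.mk_mul_mk, one_mul, mul_one,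
    pm_A_comm hl])

theorem projC_ker : projC.ker ≤ center Cov := by
  intro x hx
  have := ker_mem eC_cox zS_center zA_center (by rw [zB_val]; exact one_mem _) projC
    (fun l hl => by simp [projC, eC, dif_pos hl, eT]; rfl) (by rw [eC_gen]; exact mem_top x) hx
  refine (closure_le _).2 ?_ this
  rintro y (rfl | rfl | rfl)
  · exact zS_center
  · exact zA_center
  · rw [zB_val]; exact one_mem _

theorem projC_surj : Function.Surjective projC := by
  rw [← MonoidHom.range_eq_top, eq_top_iff, ← eG_gen, closure_le]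
  rintro _ ⟨l, hl, rfl⟩
  exact ⟨eC l, by simp [projC, eC, hl, eT]⟩

theorem cov_perfect : commutator Cov = ⊤ := by
  let ab := Abelianization.of (G := Cov)
  have hb : ∀ k, k < 9 → 0 < k → ab (eC k) = ab (eC (par k)) := by
    intro k hk h0
    have hp : par k < 9 ∧ adjL (par k) k = true := by interval_cases k <;> decide
    have := congrArg ab (eC_cox.braid _ _ hp.1 hk hp.2)
    simp only [map_mul] at this
    rw [mul_comm (ab (eC k)) (ab (eC (par k))), mul_left_cancel_iff] at this
    exact this.symm
  have hall : ∀ k, k < 9 → ab (eC k) = ab (eC 0) := by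
    intro k
    induction k using Nat.strong_induction_on with
    | _ k ih =>
      intro hk
      rcases Nat.eq_zero_or_pos k with rfl | h0
      · rfl
      · have hp : par k < k := by interval_cases k <;> decide
        rw [hb k hk h0, ih _ hp (by omega)]
  have hev : ∀ w : List ℕ, (∀ l ∈ w, l < 9) → ab (evalW eC w) = ab (eC 0) ^ w.length := by
    intro w
    induction w with
    | nil => intro _; simp [evalW]
    | cons x w ih =>
      intro hw
      rw [evalW_cons, map_mul, ih fun m hm => hw m (List.mem_cons_of_mem _ hm),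
        hall x (hw x List.mem_cons_self), List.length_cons, pow_succ']
  have h1 : ab (eC 0) = 1 := by
    have h2 : ab (eC 0) ^ 2 = 1 := by rw [pow_two, ← map_mul, eC_cox.sq 0 (by norm_num), map_one]
    have h63 := hev wB (lt_of_Rx (by simp))
    rw [zB_val, map_one, show wB.length = 2 * 31 + 1 by decide +kernel, pow_succ, pow_mul, h2,
      one_pow, one_mul] at h63
    exact h63.symm
  rw [← Abelianization.ker_of, eq_top_iff, ← eC_gen, closure_le]
  rintro _ ⟨l, hl, rfl⟩
  rw [SetLike.mem_coe, MonoidHom.mem_ker]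
  exact (hall l hl).trans h1

theorem cov_stem : Cfsg.IsStemExtension projC :=
  ⟨projC_surj, projC_ker, fun x _ => by rw [cov_perfect]; exact mem_top x⟩

theorem multiplier : Cfsg.HasCyclicSchurMultiplier Fi22 6 := by
  have hfin : Finite GG := Fi22Top.order_facts.1
  have : Finite Cov := inferInstance
  refine ⟨⟨Cov, inferInstance, inferInstance, projC, cov_stem, ?_⟩,
    fun Γ _ _ σ hσ => exists_surjection_six hσ⟩
  obtain ⟨f, hf⟩ := exists_surjection_six cov_stem
  have hS : (evalW eC wS : Cov) ∈ projC.ker := by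
    rw [MonoidHom.mem_ker]; simp [projC, zS_val]
  have hA : (evalW eC wA : Cov) ∈ projC.ker := by
    rw [MonoidHom.mem_ker]; simp [projC, zA_val]
  have hS3 : evalW eC wS ^ 3 = 1 := eC_cox.spider_cube zS_center
  have hA2 : evalW eC wA * evalW eC wA = 1 :=
    eC_cox.seven_sq (g := [0, 1, 0, 2, 1, 0, 3, 2, 1, 0, 7, 4, 3, 2, 1, 0]) rfl (by decide)
      zA_center seven_word1
  have hSne : evalW eC wS ≠ 1 := fun h => tm_S_ne (by
    have := congrArg Subtype.val h
    rw [zS_val, OneMemClass.coe_one, Prod.mk_eq_one, Prod.mk_eq_one] at this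
    exact this.2.1)
  have hAne : evalW eC wA ≠ 1 := fun h => pm_A_ne (by
    have := congrArg Subtype.val h
    rw [zA_val, OneMemClass.coe_one, Prod.mk_eq_one, Prod.mk_eq_one] at this
    exact this.2.2)
  have o3 : orderOf (⟨_, hS⟩ : projC.ker) = 3 := by
    have : Fact (Nat.Prime 3) := ⟨Nat.prime_three⟩
    refine orderOf_eq_prime (Subtype.ext ?_) (fun h => hSne (congrArg Subtype.val h))
    rw [SubmonoidClass.coe_pow, OneMemClass.coe_one]
    exact hS3
  have o2 : orderOf (⟨_, hA⟩ : projC.ker) = 2 := by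
    have : Fact (Nat.Prime 2) := ⟨Nat.prime_two⟩
    refine orderOf_eq_prime (Subtype.ext ?_) (fun h => hAne (congrArg Subtype.val h))
    rw [SubmonoidClass.coe_pow, OneMemClass.coe_one, pow_two]
    exact hA2
  have h3 : 3 ∣ Nat.card projC.ker := by
    have := orderOf_dvd_natCard (⟨_, hS⟩ : projC.ker)
    rwa [o3] at this
  have h2 : 2 ∣ Nat.card projC.ker := by
    have := orderOf_dvd_natCard (⟨_, hA⟩ : projC.ker)
    rwa [o2] at this
  have hle : Nat.card projC.ker ≤ 6 := by
    have := Nat.card_le_card_of_surjective f hf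
    simpa using this
  have hpos : 0 < Nat.card projC.ker := Nat.card_pos
  have hcard : Nat.card projC.ker = 6 := by omega
  have hbij : Function.Bijective f := (Nat.bijective_iff_surjective_and_card f).2 ⟨hf, by rw [hcard]; simp⟩
  exact ⟨(MulEquiv.ofBijective f hbij).symm⟩

end Cfsg.Agent.H78.Fi22Mult
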