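import Cfsg.Agent.H45.CosetSound

/-!
Certificates that a word is trivial by commutations, braid moves and cancellations in a
simply laced Coxeter graph on nine letters.
-/

set_option autoImplicit false

namespace Cfsg.Agent.H78.Fi22Mult

open Cfsg.Agent.H45 (evalW evalW_cons)

/-- adjacency in the graph with arms 3-2-1-0, 3-4-5-6, 3-7-8 -/
def adjL (x y : ℕ) : Bool :=
  [1, 9 + 2, 18 + 3, 27 + 4, 27 + 7, 36 + 5, 45 + 6, 63 + 8].elem (bif Nat.ble x y then 9 * x + y else 9 * y + x)

/-- one move at a position: kind `0` commute, `1` braid, `2` cancel -/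
def moveAt : ℕ → List ℕ → ℕ → Option (List ℕ)
  | 0, x :: y :: t, 0 =>
    bif Nat.blt x 9 && Nat.blt y 9 && !Nat.beq x y && !adjL x y then some (y :: x :: t) else none
  | 0, x :: y :: z :: t, 1 =>
    bif Nat.blt x 9 && Nat.blt y 9 && Nat.beq x z && adjL x y then some (y :: x :: y :: t) else none
  | 0, x :: y :: t, 2 =>
    bif Nat.blt x 9 && Nat.beq x y then some t else none
  | p + 1, x :: t, k =>
    match moveAt p t k with
    | some t' => some (x :: t')
    | none => none
  | _, _, _ => none

/-- apply moves, each packed as `4 * position + kind`, and end with the empty word -/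
def movesOK : List ℕ → List ℕ → Bool
  | [], w => w.isEmpty
  | c :: cs, w =>
    match moveAt (c / 4) w (c % 4) with
    | some w' => movesOK cs w'
    | none => false

/-- the Coxeter relations of the graph -/
structure CoxRel {X : Type*} [Group X] (e : ℕ → X) : Prop where
  sq : ∀ x, x < 9 → e x * e x = 1
  comm : ∀ x y, x < 9 → y < 9 → x ≠ y → adjL x y = false → e x * e y = e y * e x
  braid : ∀ x y, x < 9 → y < 9 → adjL x y = true → e x * e y * e x = e y * e x * e y

theorem moveAt_sound {X : Type*} [Group X] {e : ℕ → X} (h : CoxRel e) :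
    ∀ (p : ℕ) (w : List ℕ) (k : ℕ) (w' : List ℕ), moveAt p w k = some w' →
      evalW e w = evalW e w' := by
  intro p w k w' hw
  fun_induction moveAt p w k generalizing w' <;> try (simp at hw; done)
  all_goals simp only [Option.some.injEq] at hw
  all_goals subst hw
  · next x y t hc =>
    simp only [Bool.and_eq_true, Bool.not_eq_true', Nat.blt_eq] at hc
    have hne : x ≠ y := fun e => by simp [e] at hc
    simp only [evalW_cons, ← mul_assoc, h.comm x y hc.1.1.1 hc.1.1.2 hne hc.2]
  · next x y z t hc =>
    simp only [Bool.and_eq_true, Nat.blt_eq, Nat.beq_eq] at hc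
    obtain ⟨⟨⟨hx, hy⟩, rfl⟩, ha⟩ := hc
    simp only [evalW_cons, ← mul_assoc, h.braid x y hx hy ha]
  · next x y t hc =>
    simp only [Bool.and_eq_true, Nat.blt_eq, Nat.beq_eq] at hc
    obtain ⟨hx, rfl⟩ := hc
    simp only [evalW_cons, ← mul_assoc, h.sq x hx, one_mul]
  · next p x t k t' ht ih =>
    simp only [evalW_cons, ih _ ht]

theorem movesOK_sound {X : Type*} [Group X] {e : ℕ → X} (h : CoxRel e) :
    ∀ (cs w : List ℕ), movesOK cs w = true → evalW e w = 1 := by
  intro cs
  induction cs with
  | nil =>
    intro w hw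
    rw [movesOK, List.isEmpty_iff] at hw
    subst hw
    rfl
  | cons c cs ih =>
    intro w hw
    rw [movesOK] at hw
    rcases hm : moveAt (c / 4) w (c % 4) with _ | w'
    · rw [hm] at hw; exact absurd hw (by simp)
    · rw [hm] at hw
      rw [moveAt_sound h _ _ _ _ hm]
      exact ih w' hw

end Cfsg.Agent.H78.Fi22Mult
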