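import Cfsg.Agent.H45.CosetCheck
import Mathlib

/-!
Signed permutation tables: a point is `2 * y + s`, a column stores the image of `2 * y`. All maps
commute with `i ↦ i ^^^ 1`, so identities are checked on even points only.
-/

set_option autoImplicit false

namespace Cfsg.Agent.H78.Fi22Mult

open Cfsg.Agent.H45 (force force_eq)

/-- image of a signed point -/
def sget (c i : ℕ) : ℕ :=
  Nat.xor (Nat.land (Nat.shiftRight c (Nat.mul (Nat.shiftRight i 1) 16)) 65535) (Nat.land i 1)

/-- `f` holds at all even points below `2 * m` -/
noncomputable def evens (f : ℕ → Bool) (m : ℕ) : Bool :=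
  Nat.rec (motive := fun _ => Bool) true
    (fun k ih => Bool.rec (motive := fun _ => Bool) false ih (f (Nat.mul 2 k))) m

/-- an involutive column with values below `n` -/
noncomputable def invAt (a n p : ℕ) : Bool :=
  force (sget a p) fun q => Bool.rec (motive := fun _ => Bool) false (Nat.beq (sget a q) p) (Nat.blt q n)

/-- two columns commute -/
noncomputable def commAt (a b p : ℕ) : Bool :=
  force (sget a p) fun q => force (sget b p) fun r => Nat.beq (sget b q) (sget a r)

/-- two columns braid -/
noncomputable def braidAt (a b p : ℕ) : Bool :=
  force (sget a p) fun q => force (sget b q) fun q' => force (sget b p) fun r =>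
    force (sget a r) fun r' => Nat.beq (sget a q') (sget b r')

/-- `t` is `a` then `b` -/
noncomputable def two (a b t p : ℕ) : Bool :=
  force (sget a p) fun q => Nat.beq (sget b q) (sget t p)

/-- `t` is `a` then `b` then `c` -/
noncomputable def three (a b c t p : ℕ) : Bool :=
  force (sget a p) fun q => force (sget b q) fun r => Nat.beq (sget c r) (sget t p)

/-- `a` then `b` adds `r` to an even point -/
noncomputable def twoTo (a b r p : ℕ) : Bool :=
  force (sget a p) fun q => Nat.beq (sget b q) (Nat.add p r)

/-- `a` then `b` then `c` adds `r` to an even point -/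
noncomputable def threeTo (a b c r p : ℕ) : Bool :=
  force (sget a p) fun q => force (sget b q) fun s => Nat.beq (sget c s) (Nat.add p r)

end Cfsg.Agent.H78.Fi22Mult
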