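import Cfsg.Agent.H78.Fi22Mult.SignedData

/-!
Kernel checks of relations between the signed permutations (part 2).
-/

set_option autoImplicit false
set_option Elab.async false
set_option maxRecDepth 100000

namespace Cfsg.Agent.H78.Fi22Mult

theorem braid34 : evens (braidAt g3 g4) 14080 = true := by decide +kernel

theorem braid37 : evens (braidAt g3 g7) 14080 = true := by decide +kernel

theorem braid45 : evens (braidAt g4 g5) 14080 = true := by decide +kernel

theorem braid56 : evens (braidAt g5 g6) 14080 = true := by decide +kernel

theorem braid78 : evens (braidAt g7 g8) 14080 = true := by decide +kernel

theorem comm02 : evens (commAt g0 g2) 14080 = true := by decide +kernel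

theorem comm03 : evens (commAt g0 g3) 14080 = true := by decide +kernel

theorem comm04 : evens (commAt g0 g4) 14080 = true := by decide +kernel

theorem comm05 : evens (commAt g0 g5) 14080 = true := by decide +kernel

theorem comm06 : evens (commAt g0 g6) 14080 = true := by decide +kernel

theorem comm07 : evens (commAt g0 g7) 14080 = true := by decide +kernel

theorem comm08 : evens (commAt g0 g8) 14080 = true := by decide +kernel

theorem comm13 : evens (commAt g1 g3) 14080 = true := by decide +kernel

theorem comm14 : evens (commAt g1 g4) 14080 = true := by decide +kernel

theorem comm15 : evens (commAt g1 g5) 14080 = true := by decide +kernel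


end Cfsg.Agent.H78.Fi22Mult
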