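import Cfsg.Agent.H78.Fi22Mult.SignedData

/-!
Kernel checks of relations between the signed permutations (part 3).
-/

set_option autoImplicit false
set_option Elab.async false
set_option maxRecDepth 100000

namespace Cfsg.Agent.H78.Fi22Mult

theorem comm16 : evens (commAt g1 g6) 14080 = true := by decide +kernel

theorem comm17 : evens (commAt g1 g7) 14080 = true := by decide +kernel

theorem comm18 : evens (commAt g1 g8) 14080 = true := by decide +kernel

theorem comm24 : evens (commAt g2 g4) 14080 = true := by decide +kernel

theorem comm25 : evens (commAt g2 g5) 14080 = true := by decide +kernel

theorem comm26 : evens (commAt g2 g6) 14080 = true := by decide +kernel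

theorem comm27 : evens (commAt g2 g7) 14080 = true := by decide +kernel

theorem comm28 : evens (commAt g2 g8) 14080 = true := by decide +kernel

theorem comm35 : evens (commAt g3 g5) 14080 = true := by decide +kernel

theorem comm36 : evens (commAt g3 g6) 14080 = true := by decide +kernel

theorem comm38 : evens (commAt g3 g8) 14080 = true := by decide +kernel

theorem comm46 : evens (commAt g4 g6) 14080 = true := by decide +kernel

theorem comm47 : evens (commAt g4 g7) 14080 = true := by decide +kernel

theorem comm48 : evens (commAt g4 g8) 14080 = true := by decide +kernel


end Cfsg.Agent.H78.Fi22Mult
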