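import Cfsg.Agent.H78.Fi22Mult.SignedData

/-!
Kernel checks of relations between the signed permutations (part 4).
-/

set_option autoImplicit false
set_option Elab.async false
set_option maxRecDepth 100000

namespace Cfsg.Agent.H78.Fi22Mult

theorem comm57 : evens (commAt g5 g7) 14080 = true := by decide +kernel

theorem comm58 : evens (commAt g5 g8) 14080 = true := by decide +kernel

theorem comm67 : evens (commAt g6 g7) 14080 = true := by decide +kernel

theorem comm68 : evens (commAt g6 g8) 14080 = true := by decide +kernel

theorem eq_p1 : evens (three g3 g2 g1 p1) 14080 = true := by decide +kernel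

theorem eq_p2 : evens (three g3 g4 g5 p2) 14080 = true := by decide +kernel

theorem eq_p3 : evens (three g3 g7 g8 p3) 14080 = true := by decide +kernel

theorem eq_sw : evens (three p1 p2 p3 sw) 14080 = true := by decide +kernel

theorem eq_sw2 : evens (two sw sw sw2) 14080 = true := by decide +kernel

theorem eq_sw5 : evens (three sw2 sw2 sw sw5) 14080 = true := by decide +kernel

theorem eq_q0 : evens (three g0 g1 g2 q0) 14080 = true := by decide +kernel

theorem eq_ew : evens (three q0 p2 g7 ew) 14080 = true := by decide +kernel

theorem eq_ew3 : evens (three ew ew ew ew3) 14080 = true := by decide +kernel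

theorem eq_r0 : evens (three g1 g2 g3 r0) 14080 = true := by decide +kernel

theorem eq_r1 : evens (three g4 g5 g6 r1) 14080 = true := by decide +kernel

theorem eq_fw : evens (three r0 r1 g7 fw) 14080 = true := by decide +kernel

theorem eq_fw3 : evens (three fw fw fw fw3) 14080 = true := by decide +kernel

theorem fin_s : evens (twoTo sw5 sw5 0) 14080 = true := by decide +kernel

theorem fin_e : evens (threeTo ew3 ew3 ew3 1) 14080 = true := by decide +kernel

theorem fin_f : evens (threeTo fw3 fw3 fw3 0) 14080 = true := by decide +kernel


end Cfsg.Agent.H78.Fi22Mult
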