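import Cfsg.Agent.H78.Fi22Mult.SignedRel1
import Cfsg.Agent.H78.Fi22Mult.SignedRel2
import Cfsg.Agent.H78.Fi22Mult.SignedRel3
import Cfsg.Agent.H78.Fi22Mult.SignedRel4
import Cfsg.Agent.H78.Fi22Mult.Core

/-!
The signed permutations as permutations of 28160 points, and the values of the three further words.
-/

set_option autoImplicit false
set_option maxRecDepth 100000

namespace Cfsg.Agent.H78.Fi22Mult

open Cfsg.Agent.H45

theorem sget_eq (c i : ℕ) : sget c i = (((c >>> (i / 2 * 16)) &&& 65535) ^^^ (i &&& 1)) := by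
  show ((c >>> ((i >>> 1) * 16)) &&& 65535) ^^^ (i &&& 1) = _
  rw [Nat.shiftRight_eq_div_pow i 1, pow_one]

theorem sget_xor (c i : ℕ) : sget c (i ^^^ 1) = sget c i ^^^ 1 := by
  rw [sget_eq, sget_eq, show (i ^^^ 1) / 2 = i / 2 by rw [Nat.xor_div_two]; simp,
    Nat.and_xor_distrib_right, show (1 : ℕ) &&& 1 = 1 from rfl, ← Nat.xor_assoc]

theorem evens_sound {f : ℕ → Bool} : ∀ {m : ℕ}, evens f m = true → ∀ y, y < m → f (2 * y) = true := by
  intro m
  induction m with
  | zero => intro _ y hy; omega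
  | succ m ih =>
    intro h y hy
    have h' : Bool.rec (motive := fun _ => Bool) false (evens f m) (f (2 * m)) = true := h
    rcases hf : f (2 * m) with _ | _ <;> rw [hf] at h'
    · exact absurd h' (by simp)
    · rcases Nat.lt_succ_iff_lt_or_eq.mp hy with hy | rfl
      · exact ih h' y hy
      · exact hf

theorem two_mul_xor_one (y : ℕ) : (2 * y) ^^^ 1 = 2 * y + 1 := by
  apply Nat.eq_of_testBit_eq
  intro j
  cases j with
  | zero => simp [Nat.testBit_zero]
  | succ j => simp [Nat.testBit_xor, Nat.testBit_succ, Nat.mul_add_div]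

/-- two maps commuting with the flip agree when they agree on even points -/
theorem ext_even {F G : ℕ → ℕ} (hF : ∀ i, F (i ^^^ 1) = F i ^^^ 1) (hG : ∀ i, G (i ^^^ 1) = G i ^^^ 1)
    (h : ∀ y, y < 14080 → F (2 * y) = G (2 * y)) (i : ℕ) (hi : i < 28160) : F i = G i := by
  rcases Nat.even_or_odd' i with ⟨y, rfl | rfl⟩
  · exact h y (by omega)
  · rw [← two_mul_xor_one, hF, hG, h y (by omega)]

/-- the generating columns -/
def gcol (l : ℕ) : ℕ := [g0, g1, g2, g3, g4, g5, g6, g7, g8].getD l 0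

theorem inv_ok : ∀ l, l < 9 → evens (invAt (gcol l) 28160) 14080 = true := by
  intro l hl
  interval_cases l
  · exact inv0
  · exact inv1
  · exact inv2
  · exact inv3
  · exact inv4
  · exact inv5
  · exact inv6
  · exact inv7
  · exact inv8

theorem gcol_lt {l : ℕ} (hl : l < 9) {i : ℕ} (hi : i < 28160) :
    sget (gcol l) i < 28160 ∧ sget (gcol l) (sget (gcol l) i) = i := by
  have h : ∀ y, y < 14080 → sget (gcol l) (2 * y) < 28160 ∧
      sget (gcol l) (sget (gcol l) (2 * y)) = 2 * y := fun y hy => by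
    have h' := evens_sound (inv_ok l hl) y hy
    simp only [invAt, force_eq] at h'
    rcases hb : Nat.blt (sget (gcol l) (2 * y)) 28160 with _ | _ <;> rw [hb] at h'
    · exact absurd h' (by simp)
    · exact ⟨Nat.blt_eq.mp hb, Nat.beq_eq.mp h'⟩
  rcases Nat.even_or_odd' i with ⟨y, rfl | rfl⟩
  · exact h y (by omega)
  · obtain ⟨h1, h2⟩ := h y (by omega)
    rw [← two_mul_xor_one, sget_xor, sget_xor, h2]
    refine ⟨?_, rfl⟩
    rcases Nat.even_or_odd' (sget (gcol l) (2 * y)) with ⟨z, hz | hz⟩ <;> rw [hz] at h1 ⊢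
    · rw [two_mul_xor_one]; omega
    · rw [← two_mul_xor_one, Nat.xor_assoc, Nat.xor_self, Nat.xor_zero]; omega

/-- the permutation of a letter -/
def pmL (l : ℕ) : Equiv.Perm (Fin 28160) :=
  if h : l < 9 then
    Function.Involutive.toPerm (fun i : Fin 28160 => ⟨sget (gcol l) i, (gcol_lt h i.isLt).1⟩)
      (fun i => Fin.ext (gcol_lt h i.isLt).2)
  else 1

theorem pmL_val {l : ℕ} (h : l < 9) (i : Fin 28160) : (pmL l i : ℕ) = sget (gcol l) i := by
  rw [pmL, dif_pos h]; rfl

theorem commAt_sound {a b : ℕ} (h : evens (commAt a b) 14080 = true) :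
    ∀ i, i < 28160 → sget b (sget a i) = sget a (sget b i) :=
  ext_even (fun i => by rw [sget_xor, sget_xor]) (fun i => by rw [sget_xor, sget_xor]) fun y hy => by
    have := evens_sound h y hy
    simp only [commAt, force_eq, Nat.beq_eq] at this
    exact this

theorem braidAt_sound {a b : ℕ} (h : evens (braidAt a b) 14080 = true) :
    ∀ i, i < 28160 → sget a (sget b (sget a i)) = sget b (sget a (sget b i)) :=
  ext_even (fun i => by rw [sget_xor, sget_xor, sget_xor]) (fun i => by rw [sget_xor, sget_xor, sget_xor])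
    fun y hy => by
      have := evens_sound h y hy
      simp only [braidAt, force_eq, Nat.beq_eq] at this
      exact this

theorem pm_cox : CoxRel pmL := by
  have hsq : ∀ x, x < 9 → pmL x * pmL x = 1 := fun x hx => Equiv.ext fun i => Fin.ext (by
    simp only [Equiv.Perm.mul_apply, Equiv.Perm.one_apply, pmL_val hx]
    exact (gcol_lt hx i.isLt).2)
  refine ⟨hsq, fun x y hx hy hne ha => Equiv.ext fun i => Fin.ext ?_,
    fun x y hx hy ha => Equiv.ext fun i => Fin.ext ?_⟩
  · simp only [Equiv.Perm.mul_apply, pmL_val hx, pmL_val hy]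
    interval_cases x <;> interval_cases y <;> first
      | exact absurd rfl hne
      | exact absurd ha (by decide)
      | exact commAt_sound comm02 i i.isLt
      | exact (commAt_sound comm02 i i.isLt).symm
      | exact commAt_sound comm03 i i.isLt
      | exact (commAt_sound comm03 i i.isLt).symm
      | exact commAt_sound comm04 i i.isLt
      | exact (commAt_sound comm04 i i.isLt).symm
      | exact commAt_sound comm05 i i.isLt
      | exact (commAt_sound comm05 i i.isLt).symm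
      | exact commAt_sound comm06 i i.isLt
      | exact (commAt_sound comm06 i i.isLt).symm
      | exact commAt_sound comm07 i i.isLt
      | exact (commAt_sound comm07 i i.isLt).symm
      | exact commAt_sound comm08 i i.isLt
      | exact (commAt_sound comm08 i i.isLt).symm
      | exact commAt_sound comm13 i i.isLt
      | exact (commAt_sound comm13 i i.isLt).symm
      | exact commAt_sound comm14 i i.isLt
      | exact (commAt_sound comm14 i i.isLt).symm
      | exact commAt_sound comm15 i i.isLt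
      | exact (commAt_sound comm15 i i.isLt).symm
      | exact commAt_sound comm16 i i.isLt
      | exact (commAt_sound comm16 i i.isLt).symm
      | exact commAt_sound comm17 i i.isLt
      | exact (commAt_sound comm17 i i.isLt).symm
      | exact commAt_sound comm18 i i.isLt
      | exact (commAt_sound comm18 i i.isLt).symm
      | exact commAt_sound comm24 i i.isLt
      | exact (commAt_sound comm24 i i.isLt).symm
      | exact commAt_sound comm25 i i.isLt
      | exact (commAt_sound comm25 i i.isLt).symm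
      | exact commAt_sound comm26 i i.isLt
      | exact (commAt_sound comm26 i i.isLt).symm
      | exact commAt_sound comm27 i i.isLt
      | exact (commAt_sound comm27 i i.isLt).symm
      | exact commAt_sound comm28 i i.isLt
      | exact (commAt_sound comm28 i i.isLt).symm
      | exact commAt_sound comm35 i i.isLt
      | exact (commAt_sound comm35 i i.isLt).symm
      | exact commAt_sound comm36 i i.isLt
      | exact (commAt_sound comm36 i i.isLt).symm
      | exact commAt_sound comm38 i i.isLt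
      | exact (commAt_sound comm38 i i.isLt).symm
      | exact commAt_sound comm46 i i.isLt
      | exact (commAt_sound comm46 i i.isLt).symm
      | exact commAt_sound comm47 i i.isLt
      | exact (commAt_sound comm47 i i.isLt).symm
      | exact commAt_sound comm48 i i.isLt
      | exact (commAt_sound comm48 i i.isLt).symm
      | exact commAt_sound comm57 i i.isLt
      | exact (commAt_sound comm57 i i.isLt).symm
      | exact commAt_sound comm58 i i.isLt
      | exact (commAt_sound comm58 i i.isLt).symm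
      | exact commAt_sound comm67 i i.isLt
      | exact (commAt_sound comm67 i i.isLt).symm
      | exact commAt_sound comm68 i i.isLt
      | exact (commAt_sound comm68 i i.isLt).symm
  · simp only [Equiv.Perm.mul_apply, pmL_val hx, pmL_val hy]
    interval_cases x <;> interval_cases y <;> first
      | exact absurd ha (by decide)
      | exact braidAt_sound braid01 i i.isLt
      | exact (braidAt_sound braid01 i i.isLt).symm
      | exact braidAt_sound braid12 i i.isLt
      | exact (braidAt_sound braid12 i i.isLt).symm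
      | exact braidAt_sound braid23 i i.isLt
      | exact (braidAt_sound braid23 i i.isLt).symm
      | exact braidAt_sound braid34 i i.isLt
      | exact (braidAt_sound braid34 i i.isLt).symm
      | exact braidAt_sound braid37 i i.isLt
      | exact (braidAt_sound braid37 i i.isLt).symm
      | exact braidAt_sound braid45 i i.isLt
      | exact (braidAt_sound braid45 i i.isLt).symm
      | exact braidAt_sound braid56 i i.isLt
      | exact (braidAt_sound braid56 i i.isLt).symm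
      | exact braidAt_sound braid78 i i.isLt
      | exact (braidAt_sound braid78 i i.isLt).symm

/-- apply a word from the left -/
def wfn : List ℕ → ℕ → ℕ
  | [], i => i
  | l :: w, i => wfn w (sget (gcol l) i)

theorem wfn_xor : ∀ (w : List ℕ) (i : ℕ), wfn w (i ^^^ 1) = wfn w i ^^^ 1
  | [], _ => rfl
  | l :: w, i => by rw [wfn, wfn, sget_xor, wfn_xor w]

theorem wfn_append : ∀ (u v : List ℕ) (i : ℕ), wfn (u ++ v) i = wfn v (wfn u i)
  | [], _, _ => rfl
  | l :: u, v, i => by rw [List.cons_append, wfn, wfn, wfn_append u v]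

theorem wfn_perm : ∀ (w : List ℕ), (∀ l ∈ w, l < 9) → ∀ i : Fin 28160,
    (evalW pmL w.reverse i : ℕ) = wfn w i
  | [], _, i => by simp [evalW, wfn]
  | l :: w, hw, i => by
    rw [List.reverse_cons, evalW_append, evalW_cons, evalW_nil, mul_one, Equiv.Perm.mul_apply,
      wfn_perm w (fun m hm => hw m (List.mem_cons_of_mem _ hm)), pmL_val (hw l List.mem_cons_self), wfn]

/-- a column computes a word -/
def Rep (w : List ℕ) (t : ℕ) : Prop :=
  (∀ l ∈ w, l < 9) ∧ ∀ i, i < 28160 → wfn w i = sget t i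

theorem Rep.lt {w : List ℕ} {t : ℕ} (h : Rep w t) {i : ℕ} (hi : i < 28160) : sget t i < 28160 := by
  rw [← h.2 i hi, ← wfn_perm w h.1 ⟨i, hi⟩]
  exact Fin.isLt _

theorem rep_single (l t : ℕ) (h : gcol l = t) (hl : l < 9 := by decide) : Rep [l] t :=
  ⟨by simpa using hl, fun i _ => by simp [wfn, h]⟩

theorem rep_two {u v : List ℕ} {a b t : ℕ} (ha : Rep u a) (hb : Rep v b)
    (h : evens (two a b t) 14080 = true) : Rep (u ++ v) t := by
  refine ⟨fun l hl => (List.mem_append.mp hl).elim (ha.1 l) (hb.1 l),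
    ext_even (wfn_xor _) (sget_xor t) fun y hy => ?_⟩
  have hi : 2 * y < 28160 := by omega
  have := evens_sound h y hy
  simp only [two, force_eq, Nat.beq_eq] at this
  rw [wfn_append, ha.2 _ hi, hb.2 _ (ha.lt hi)]
  exact this

theorem rep_three {u v w : List ℕ} {a b c t : ℕ} (ha : Rep u a) (hb : Rep v b) (hc : Rep w c)
    (h : evens (three a b c t) 14080 = true) : Rep (u ++ v ++ w) t := by
  refine ⟨fun l hl => (List.mem_append.mp hl).elim
    (fun hl => (List.mem_append.mp hl).elim (ha.1 l) (hb.1 l)) (hc.1 l),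
    ext_even (wfn_xor _) (sget_xor t) fun y hy => ?_⟩
  have hi : 2 * y < 28160 := by omega
  have := evens_sound h y hy
  simp only [three, force_eq, Nat.beq_eq] at this
  rw [wfn_append, wfn_append, ha.2 _ hi, hb.2 _ (ha.lt hi), hc.2 _ (hb.lt (ha.lt hi))]
  exact this

theorem R_g0 : Rep [0] g0 := rep_single 0 g0 rfl

theorem R_g1 : Rep [1] g1 := rep_single 1 g1 rfl

theorem R_g2 : Rep [2] g2 := rep_single 2 g2 rfl

theorem R_g3 : Rep [3] g3 := rep_single 3 g3 rfl

theorem R_g4 : Rep [4] g4 := rep_single 4 g4 rfl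

theorem R_g5 : Rep [5] g5 := rep_single 5 g5 rfl

theorem R_g6 : Rep [6] g6 := rep_single 6 g6 rfl

theorem R_g7 : Rep [7] g7 := rep_single 7 g7 rfl

theorem R_g8 : Rep [8] g8 := rep_single 8 g8 rfl

theorem R_p1 : Rep [3, 2, 1] p1 :=
  rep_three R_g3 R_g2 R_g1 eq_p1

theorem R_p2 : Rep [3, 4, 5] p2 :=
  rep_three R_g3 R_g4 R_g5 eq_p2

theorem R_p3 : Rep [3, 7, 8] p3 :=
  rep_three R_g3 R_g7 R_g8 eq_p3

theorem R_sw : Rep [3, 2, 1, 3, 4, 5, 3, 7, 8] sw :=
  rep_three R_p1 R_p2 R_p3 eq_sw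

theorem R_sw2 : Rep [3, 2, 1, 3, 4, 5, 3, 7, 8, 3, 2, 1, 3, 4, 5, 3, 7, 8] sw2 :=
  rep_two R_sw R_sw eq_sw2

theorem R_sw5 : Rep [3, 2, 1, 3, 4, 5, 3, 7, 8, 3, 2, 1, 3, 4, 5, 3, 7, 8, 3, 2, 1, 3, 4, 5, 3, 7, 8, 3, 2, 1, 3, 4, 5, 3, 7, 8, 3, 2, 1, 3, 4, 5, 3, 7, 8] sw5 :=
  rep_three R_sw2 R_sw2 R_sw eq_sw5

theorem R_q0 : Rep [0, 1, 2] q0 :=
  rep_three R_g0 R_g1 R_g2 eq_q0

theorem R_ew : Rep [0, 1, 2, 3, 4, 5, 7] ew :=
  rep_three R_q0 R_p2 R_g7 eq_ew

theorem R_ew3 : Rep [0, 1, 2, 3, 4, 5, 7, 0, 1, 2, 3, 4, 5, 7, 0, 1, 2, 3, 4, 5, 7] ew3 :=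
  rep_three R_ew R_ew R_ew eq_ew3

theorem R_r0 : Rep [1, 2, 3] r0 :=
  rep_three R_g1 R_g2 R_g3 eq_r0

theorem R_r1 : Rep [4, 5, 6] r1 :=
  rep_three R_g4 R_g5 R_g6 eq_r1

theorem R_fw : Rep [1, 2, 3, 4, 5, 6, 7] fw :=
  rep_three R_r0 R_r1 R_g7 eq_fw

theorem R_fw3 : Rep [1, 2, 3, 4, 5, 6, 7, 1, 2, 3, 4, 5, 6, 7, 1, 2, 3, 4, 5, 6, 7] fw3 :=
  rep_three R_fw R_fw R_fw eq_fw3

theorem wfn_S : ∀ y, y < 14080 → wfn wS (2 * y) = 2 * y := by
  intro y hy
  have hi : 2 * y < 28160 := by omega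
  have := evens_sound fin_s y hy
  simp only [twoTo, force_eq, Nat.beq_eq, Nat.add_eq, Nat.add_zero] at this
  rw [show wS = [3, 2, 1, 3, 4, 5, 3, 7, 8, 3, 2, 1, 3, 4, 5, 3, 7, 8, 3, 2, 1, 3, 4, 5, 3, 7, 8, 3, 2, 1, 3, 4, 5, 3, 7, 8, 3, 2, 1, 3, 4, 5, 3, 7, 8] ++ [3, 2, 1, 3, 4, 5, 3, 7, 8, 3, 2, 1, 3, 4, 5, 3, 7, 8, 3, 2, 1, 3, 4, 5, 3, 7, 8, 3, 2, 1, 3, 4, 5, 3, 7, 8, 3, 2, 1, 3, 4, 5, 3, 7, 8] from rfl, wfn_append, R_sw5.2 _ hi, R_sw5.2 _ (R_sw5.lt hi), this]

theorem wfn_A : ∀ y, y < 14080 → wfn wA (2 * y) = 2 * y + 1 := by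
  intro y hy
  have hi : 2 * y < 28160 := by omega
  have := evens_sound fin_e y hy
  simp only [threeTo, force_eq, Nat.beq_eq, Nat.add_eq] at this
  rw [show wA = [0, 1, 2, 3, 4, 5, 7, 0, 1, 2, 3, 4, 5, 7, 0, 1, 2, 3, 4, 5, 7] ++ [0, 1, 2, 3, 4, 5, 7, 0, 1, 2, 3, 4, 5, 7, 0, 1, 2, 3, 4, 5, 7] ++ [0, 1, 2, 3, 4, 5, 7, 0, 1, 2, 3, 4, 5, 7, 0, 1, 2, 3, 4, 5, 7] from rfl, wfn_append, wfn_append, R_ew3.2 _ hi,
    R_ew3.2 _ (R_ew3.lt hi), R_ew3.2 _ (R_ew3.lt (R_ew3.lt hi)), this]

theorem wfn_B : ∀ y, y < 14080 → wfn wB (2 * y) = 2 * y := by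
  intro y hy
  have hi : 2 * y < 28160 := by omega
  have := evens_sound fin_f y hy
  simp only [threeTo, force_eq, Nat.beq_eq, Nat.add_eq, Nat.add_zero] at this
  rw [show wB = [1, 2, 3, 4, 5, 6, 7, 1, 2, 3, 4, 5, 6, 7, 1, 2, 3, 4, 5, 6, 7] ++ [1, 2, 3, 4, 5, 6, 7, 1, 2, 3, 4, 5, 6, 7, 1, 2, 3, 4, 5, 6, 7] ++ [1, 2, 3, 4, 5, 6, 7, 1, 2, 3, 4, 5, 6, 7, 1, 2, 3, 4, 5, 6, 7] from rfl, wfn_append, wfn_append, R_fw3.2 _ hi,
    R_fw3.2 _ (R_fw3.lt hi), R_fw3.2 _ (R_fw3.lt (R_fw3.lt hi)), this]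

theorem lt9 : (∀ l ∈ wS, l < 9) ∧ (∀ l ∈ wA, l < 9) ∧ (∀ l ∈ wB, l < 9) := by decide +kernel

theorem perm_inv_val {w : List ℕ} (hw : ∀ l ∈ w, l < 9) (i : Fin 28160) :
    (((evalW pmL w)⁻¹ : Equiv.Perm (Fin 28160)) i : ℕ) = wfn w i := by
  rw [← pm_cox.evalW_reverse w hw, wfn_perm w hw]

theorem pm_S : evalW pmL wS = 1 := by
  rw [← inv_eq_one]
  refine Equiv.ext fun i => Fin.ext ?_
  rw [perm_inv_val lt9.1, Equiv.Perm.one_apply]
  exact ext_even (G := fun j => j) (wfn_xor _) (fun _ => rfl) wfn_S i i.isLt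

theorem pm_B : evalW pmL wB = 1 := by
  rw [← inv_eq_one]
  refine Equiv.ext fun i => Fin.ext ?_
  rw [perm_inv_val lt9.2.2, Equiv.Perm.one_apply]
  exact ext_even (G := fun j => j) (wfn_xor _) (fun _ => rfl) wfn_B i i.isLt

theorem pm_A_val (i : Fin 28160) : (((evalW pmL wA)⁻¹ : Equiv.Perm (Fin 28160)) i : ℕ) = (i : ℕ) ^^^ 1 := by
  rw [perm_inv_val lt9.2.1]
  exact ext_even (G := fun j => j ^^^ 1) (wfn_xor _) (fun _ => rfl)
    (fun y hy => by rw [wfn_A y hy, two_mul_xor_one]) i i.isLt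

theorem pm_A_comm {l : ℕ} (hl : l < 9) : pmL l * evalW pmL wA = evalW pmL wA * pmL l := by
  have h : Commute (pmL l) (evalW pmL wA)⁻¹ := Equiv.ext fun i => Fin.ext (by
    simp only [Equiv.Perm.mul_apply, pmL_val hl, pm_A_val]
    exact sget_xor _ _)
  exact (Commute.inv_right_iff.mp h).eq

theorem pm_A_ne : evalW pmL wA ≠ 1 := by
  intro h
  have := pm_A_val ⟨0, by norm_num⟩
  rw [h, inv_one, Equiv.Perm.one_apply] at this
  exact absurd this (by decide)

end Cfsg.Agent.H78.Fi22Mult
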