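import Cfsg.Agent.H78.Fi22Mult.SignedData

/-!
Kernel checks of relations between the signed permutations (part 1).
-/

set_option autoImplicit false
set_option Elab.async false
set_option maxRecDepth 100000

namespace Cfsg.Agent.H78.Fi22Mult

theorem inv0 : evens (invAt g0 28160) 14080 = true := by decide +kernel

theorem inv1 : evens (invAt g1 28160) 14080 = true := by decide +kernel

theorem inv2 : evens (invAt g2 28160) 14080 = true := by decide +kernel

theorem inv3 : evens (invAt g3 28160) 14080 = true := by decide +kernel

theorem inv4 : evens (invAt g4 28160) 14080 = true := by decide +kernel

theorem inv5 : evens (invAt g5 28160) 14080 = true := by decide +kernel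

theorem inv6 : evens (invAt g6 28160) 14080 = true := by decide +kernel

theorem inv7 : evens (invAt g7 28160) 14080 = true := by decide +kernel

theorem inv8 : evens (invAt g8 28160) 14080 = true := by decide +kernel

theorem braid01 : evens (braidAt g0 g1) 14080 = true := by decide +kernel

theorem braid12 : evens (braidAt g1 g2) 14080 = true := by decide +kernel

theorem braid23 : evens (braidAt g2 g3) 14080 = true := by decide +kernel


end Cfsg.Agent.H78.Fi22Mult
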