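import Cfsg.Agent.H78.Fi22Mult.TripleData
import Cfsg.Agent.H45.Fi22Pres

/-!
Relations of the triple cover checked on matrices.
-/

set_option autoImplicit false
set_option Elab.async false
set_option maxRecDepth 100000

namespace Cfsg.Agent.H78.Fi22Mult

open Cfsg.Agent.H45

/-- the generators and the scalar -/
def tall : List (List ℕ) := tgens ++ [tscalar]

theorem tall_len : (tall.all fun g => Nat.beq g.length 54) = true := by decide +kernel

theorem tcox : (Fi22Pres.pres.Rc.all fun w =>
    decide (prodR tall (idR 54) w = idR 54)) = true := by decide +kernel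

theorem tspider : prodR tall (idR 54) (List.replicate 10 [3, 2, 1, 3, 4, 5, 3, 7, 8]).flatten =
    tscalar := by decide +kernel

theorem tseven1 : prodR tall (idR 54) (List.replicate 9 [0, 1, 2, 3, 4, 5, 7]).flatten = idR 54 := by
  decide +kernel

theorem tseven2 : prodR tall (idR 54) (List.replicate 9 [1, 2, 3, 4, 5, 6, 7]).flatten = idR 54 := by
  decide +kernel

theorem tcentral : ((List.range 9).all fun l =>
    decide (prodR tall (idR 54) [l, 9] = prodR tall (idR 54) [9, l])) = true := by decide +kernel

theorem tscalar_cube : prodR tall (idR 54) [9, 9, 9] = idR 54 := by decide +kernel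

theorem tscalar_ne : decide (tscalar = idR 54) = false := by decide +kernel

end Cfsg.Agent.H78.Fi22Mult
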